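import Cfsg.Agent.LyMult.StepDefs

/-! Generated: steps are justified. -/

set_option Elab.async false
set_option maxRecDepth 100000

namespace Cfsg.Agent.LyMult

open Cfsg.Agent.DCoset Cfsg.Agent.CosetCert

theorem steps_3 : allFrom (Steps.check steps rules wtab) 378 126 = true := by
  decide +kernel

theorem steps_4 : allFrom (Steps.check steps rules wtab) 504 126 = true := by
  decide +kernel

theorem steps_5 : allFrom (Steps.check steps rules wtab) 630 126 = true := by
  decide +kernel


end Cfsg.Agent.LyMult
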