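import Cfsg.Agent.LyMult.Perm

/-! Words in the eight letters and their values in the subgroup. -/

set_option autoImplicit false
set_option maxRecDepth 100000

namespace Cfsg.Agent.LyMult

open Cfsg.Agent.DCoset Cfsg.Agent.CosetCert

/-- The body of a packed word. -/
def packL : List Nat → Nat
  | [] => 0
  | x :: l => x + 256 * packL l

/-- A packed word. -/
def pkW (l : List Nat) : Nat := packL l * 65536 + l.length

theorem valW_packL {M : Type*} [Monoid M] (lv : Nat → M) : ∀ l : List Nat, (∀ x ∈ l, x < 256) →
    valW lv l.length (packL l) = (l.map lv).prod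
  | [], _ => rfl
  | x :: l, h => by
    have hx := h x List.mem_cons_self
    rw [List.length_cons, valW, packL, Nat.add_mul_mod_self_left, Nat.mod_eq_of_lt hx,
      Nat.add_mul_div_left _ _ (by norm_num : 0 < 256), Nat.div_eq_of_lt hx, Nat.zero_add,
      valW_packL lv l fun y hy => h y (List.mem_cons_of_mem _ hy), List.map_cons, List.prod_cons]

theorem val_pkW {M : Type*} [Monoid M] (lv : Nat → M) (l : List Nat)
    (h : (l.all (Nat.blt · 256) && Nat.blt l.length 65536) = true) :
    val lv (pkW l) = (l.map lv).prod := by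
  rw [Bool.and_eq_true] at h
  have hn : l.length < 65536 := Nat.le_of_ble_eq_true h.2
  rw [val, show pkW l % 65536 = l.length by simp [pkW]; omega,
    show pkW l / 65536 = packL l by simp [pkW]; omega]
  exact valW_packL lv l fun x hx => Nat.le_of_ble_eq_true (List.all_eq_true.1 h.1 x hx)

/-- The element of a word. -/
noncomputable def qw (l : List Nat) : LyMat.Q := (l.map Ly.qL).prod

theorem qw_append (l m : List Nat) : qw (l ++ m) = qw l * qw m := by simp [qw]

theorem qw_pow (l : List Nat) : ∀ n : Nat, qw (List.replicate n l).flatten = qw l ^ n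
  | 0 => by simp [qw]
  | n + 1 => by rw [List.replicate_succ, List.flatten_cons, qw_append, qw_pow l n, pow_succ']

/-- The inverse word. -/
def winv (l : List Nat) : List Nat := l.reverse.map fun x => (x + 4) % 8

theorem qL_inv {x : Nat} (h : x < 8) : Ly.qL ((x + 4) % 8) = (Ly.qL x)⁻¹ := by
  rcases Nat.lt_or_ge x 4 with h4 | h4
  · rw [show (x + 4) % 8 = x + 4 by omega]
    simp only [Ly.qL, if_pos h4, if_neg (show ¬ x + 4 < 4 by omega), Nat.add_sub_cancel]
  · rw [show (x + 4) % 8 = x - 4 by omega]
    simp only [Ly.qL, if_neg (show ¬ x < 4 by omega), if_pos (show x - 4 < 4 by omega), inv_inv]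

theorem qw_winv : ∀ l : List Nat, (∀ x ∈ l, x < 8) → qw (winv l) = (qw l)⁻¹
  | [], _ => by simp [qw, winv]
  | x :: l, h => by
    rw [show winv (x :: l) = winv l ++ [(x + 4) % 8] by simp [winv], qw_append,
      qw_winv l fun y hy => h y (List.mem_cons_of_mem _ hy)]
    simp [qw, qL_inv (h x List.mem_cons_self)]

theorem qw_eq_one (l : List Nat)
    (h : (l.all (Nat.blt · 8) && Nat.blt l.length 65536 && lettersBelow 8 l.length (packL l) &&
      Nat.beq (foldW (fun g v => mapTup (tab.act g) 3 v) l.length (packL l) tab.base) tab.base) = true) :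
    qw l = 1 := by
  simp only [Bool.and_eq_true] at h
  obtain ⟨⟨⟨h1, -⟩, h3⟩, h4⟩ := h
  have hv : valW qModel.q l.length (packL l) = qw l :=
    valW_packL _ l fun x hx => lt_trans (Nat.le_of_ble_eq_true (List.all_eq_true.1 h1 x hx)) (by norm_num)
  apply qModel.inj
  have e := qModel.tup_mul_word l.length (packL l) 1 h3
  rw [one_mul, hv, qModel.one] at e
  rw [qModel.one, e]
  exact Nat.eq_of_beq_eq_true h4

/-- The number of a letter other than `z`. -/
def c8 (p : Fin 5 × Bool) : Nat := cond p.2 p.1.val (p.1.val + 4)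

theorem lift_eq {E : Type*} [Group E] (ι : LyMat.Q →* E) (Z : E) :
    ∀ l : List (Fin 5 × Bool), (∀ p ∈ l, p.1.val ≠ 4) →
      FreeGroup.lift (fun i : Fin 5 => if i.val < 4 then ι (Ly.qL i.val) else Z) (FreeGroup.mk l) =
        ι (qw (l.map c8))
  | [], _ => by simp [qw, FreeGroup.lift_mk]
  | (i, s) :: l, h => by
    have hi := h (i, s) List.mem_cons_self
    have ih := lift_eq ι Z l fun p hp => h p (List.mem_cons_of_mem _ hp)
    rw [FreeGroup.lift_mk] at ih ⊢
    rw [List.map_cons, List.prod_cons, ih, List.map_cons,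
      show qw (c8 (i, s) :: l.map c8) = Ly.qL (c8 (i, s)) * qw (l.map c8) by simp [qw], map_mul]
    congr 1
    have h4 : i.val < 4 := by have := i.isLt; simp only at hi; omega
    cases s
    · simp [c8, Ly.qL, h4]
    · simp [c8, h4]

/-- A generator other than `z` as a word. -/
def gw (g : Cfsg.Spor.Ly.Gen) : List Nat := (LyMat.expG g).map c8

end Cfsg.Agent.LyMult
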