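import Cfsg.Agent.LyMult.Section
import Cfsg.Agent.LyMult.Words

/-! Lifts of the generators of the Lyons group to a central extension, and the values of its relators. -/

set_option autoImplicit false
set_option maxRecDepth 100000

namespace Cfsg.Agent.LyMult

open Cfsg Cfsg.Spor Cfsg.Agent.LyMat
open Cfsg.Agent.CosetCert (wordRels exists_rename)

/-- The generators a, b, c, d, z of the presented group. -/
def of5 (i : Fin 5) : PresentedGroup lyRels :=
  PresentedGroup.of (![Ly.Gen.a, Ly.Gen.b, Ly.Gen.c, Ly.Gen.d, Ly.Gen.z] i)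

theorem ren_of5 : ∀ i : Fin 4, CosetCert.LyChain1.ren (i.castLE (by decide)) = (![Ly.Gen.a, Ly.Gen.b, Ly.Gen.c, Ly.Gen.d] : Fin 4 → Ly.Gen) i := by
  decide

theorem mk_mul_inv {x y : FreeGroup Ly.Gen} (h : x * y⁻¹ ∈ Ly.extra) :
    PresentedGroup.mk lyRels x = PresentedGroup.mk lyRels y := by
  have h1 : PresentedGroup.mk lyRels (x * y⁻¹) = 1 := PresentedGroup.one_of_mem (Or.inr h)
  rwa [map_mul, map_inv, mul_inv_eq_one] at h1

theorem genImg_of5 (g : Ly.Gen) : genImg of5 g = PresentedGroup.of g := by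
  have key : ∀ (g : Ly.Gen) (y : FreeGroup Ly.Gen), FreeGroup.of g * y⁻¹ ∈ Ly.extra →
      genImg of5 g = PresentedGroup.mk lyRels y → genImg of5 g = PresentedGroup.of g :=
    fun g y h e => e.trans (mk_mul_inv h).symm
  have key' : ∀ g : Ly.Gen, FreeGroup.of g * (FreeGroup.map
      (![Ly.Gen.a, Ly.Gen.b, Ly.Gen.c, Ly.Gen.d, Ly.Gen.z] : Fin 5 → Ly.Gen) (FreeGroup.mk (expG g)))⁻¹
        ∈ Ly.extra → genImg of5 g = PresentedGroup.of g := by
    intro g h
    refine key g _ h ?_
    have e : FreeGroup.lift of5 = (PresentedGroup.mk lyRels).comp (FreeGroup.map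
        (![Ly.Gen.a, Ly.Gen.b, Ly.Gen.c, Ly.Gen.d, Ly.Gen.z] : Fin 5 → Ly.Gen)) :=
      FreeGroup.ext_hom _ _ fun i => by simp [of5, PresentedGroup.of]
    rw [genImg, e]
    rfl
  have ha : genImg of5 .a = PresentedGroup.of Ly.Gen.a := by simp [genImg, expG, FreeGroup.lift_mk, of5]
  cases g
  case a => exact ha
  case b => simp [genImg, expG, FreeGroup.lift_mk, of5]
  case c => simp [genImg, expG, FreeGroup.lift_mk, of5]
  case d => simp [genImg, expG, FreeGroup.lift_mk, of5]
  case z => simp [genImg, expG, FreeGroup.lift_mk, of5]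
  case c5 =>
    refine key _ (Ly.c1⁻¹ * Ly.c2⁻¹ * Ly.c1 * Ly.c2) (by decide +kernel) ?_
    rw [map_mul, map_mul, map_mul, map_inv, map_inv, mk_mul_inv (x := Ly.c1) (y := Ly.c) (by decide +kernel),
      mk_mul_inv (x := Ly.c2) (y := Ly.a⁻¹ * Ly.c * Ly.a) (by decide +kernel)]
    simp [genImg, expG, FreeGroup.lift_mk, of5, PresentedGroup.of, mul_assoc]
  case e =>
    refine key _ ((Ly.b ^ 2)⁻¹ * (Ly.a⁻¹ * Ly.c1⁻¹ * Ly.a * Ly.c1) * Ly.a⁻¹ *
      Ly.c1 * Ly.a * Ly.d * Ly.c1 * Ly.b * Ly.a * Ly.b⁻¹ * Ly.d * Ly.c1 * Ly.d) (by decide +kernel) ?_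
    simp only [map_mul, map_inv, map_pow, mk_mul_inv (x := Ly.c1) (y := Ly.c) (by decide +kernel)]
    simp [genImg, expG, FreeGroup.lift_mk, of5, PresentedGroup.of, mul_assoc, pow_two]
  all_goals exact key' _ (by decide +kernel)

theorem extra_length : Ly.extra.length = 86 := by decide +kernel

theorem early_no_z : ((lits.take 72).all fun w => w.all fun x => !(Nat.beq x 4) && !(Nat.beq x 9)) = true := by
  decide +kernel

variable {E : Type} [Group E] (π : E →* PresentedGroup lyRels)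

/-- The lift of the five generators. -/
noncomputable def u5 (ι : LyMat.Q →* E) (Z : E) (i : Fin 5) : E :=
  if i.val < 4 then ι (DCoset.Ly.qL i.val) else Z

/-- The value of a word in all generators. -/
noncomputable def ev (ι : LyMat.Q →* E) (Z : E) : FreeGroup Ly.Gen →* E :=
  FreeGroup.lift (genImg (u5 ι Z))

theorem ev_gen (ι : LyMat.Q →* E) (Z : E) (g : Ly.Gen) (hg : g ≠ .z) :
    ev ι Z (FreeGroup.of g) = ι (qw (gw g)) := by
  rw [ev, FreeGroup.lift_apply_of, genImg, gw]
  refine lift_eq ι Z _ ?_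
  revert hg
  cases g <;> decide

theorem ev_z (ι : LyMat.Q →* E) (Z : E) : ev ι Z (FreeGroup.of Ly.Gen.z) = Z := by
  simp [ev, genImg, expG, FreeGroup.lift_mk, u5]

/-- What is needed of the lift of the subgroup. -/
structure Iota (ι : LyMat.Q →* E) : Prop where
  proj : ∀ i : Fin 4, π (ι (DCoset.Ly.qL i.val)) = of5 i.castSucc
  inj : ∀ q, π (ι q) = 1 → ι q = 1

theorem exists_iota [Finite E] (hs : Function.Surjective π) (hc : π.ker ≤ Subgroup.center E) :
    ∃ ι : LyMat.Q →* E, Iota π ι := by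
  obtain ⟨ψ, hψ⟩ := exists_rename (rels := lyRels) CosetCert.LyChain1.relWords CosetCert.LyChain1.ren
    (one_of_ok (by decide +kernel))
  have hmem : ∀ q, ψ q ∈ lyH := fun q => by
    obtain ⟨w, rfl⟩ := PresentedGroup.mk_surjective _ q
    rw [hψ]
    induction w using FreeGroup.induction_on with
    | C1 => rw [_root_.map_one, _root_.map_one]; exact one_mem _
    | of i => rw [FreeGroup.map.of]; exact gen_mem i
    | inv_of i hi => rw [map_inv, map_inv]; exact inv_mem hi
    | mul x y hx hy => rw [map_mul, map_mul]; exact mul_mem hx hy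
  let L := lyH.comap π
  let σ : L →* lyH := (π.comp L.subtype).codRestrict lyH fun x => x.2
  have hσ : Function.Surjective σ := fun y => by
    obtain ⟨x, hx⟩ := hs y.1
    exact ⟨⟨x, show π x ∈ lyH from hx ▸ y.2⟩, Subtype.ext hx⟩
  obtain ⟨j, hj, -⟩ := section_lyH σ hσ fun x hx => Subgroup.mem_center_iff.2 fun y => Subtype.ext
    (Subgroup.mem_center_iff.1 (hc (show (x : E) ∈ π.ker from congrArg Subtype.val (MonoidHom.mem_ker.1 hx))) y)
  refine ⟨L.subtype.comp (j.comp (ψ.codRestrict lyH hmem)), ⟨fun i => ?_, fun q hq => ?_⟩⟩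
  · refine (congrArg Subtype.val (hj (ψ.codRestrict lyH hmem (DCoset.Ly.qL i.val)))).trans ?_
    show ψ (DCoset.Ly.qL i.val) = _
    rw [DCoset.Ly.qL, if_pos i.isLt, PresentedGroup.of, hψ, FreeGroup.map.of]
    fin_cases i <;> rfl
  · have h := congrArg Subtype.val (hj (ψ.codRestrict lyH hmem q))
    have h1 : ψ.codRestrict lyH hmem q = 1 := Subtype.ext (h.symm.trans hq)
    show ((j (ψ.codRestrict lyH hmem q) : L) : E) = 1
    rw [h1, map_one]
    rfl

variable {π}

theorem proj_ev {ι : LyMat.Q →* E} (hι : Iota π ι) {Z : E} (hZ : π Z = PresentedGroup.of Ly.Gen.z) :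
    π.comp (ev ι Z) = PresentedGroup.mk lyRels := by
  ext g
  rw [MonoidHom.comp_apply, ev, FreeGroup.lift_apply_of, genImg, ← MonoidHom.comp_apply]
  have : π.comp (FreeGroup.lift (u5 ι Z)) = FreeGroup.lift of5 := by
    ext i
    simp only [MonoidHom.comp_apply, FreeGroup.lift_apply_of, u5]
    split_ifs with h
    · exact hι.proj ⟨i.val, h⟩
    · rw [hZ, show i = 4 from Fin.ext (by have := i.isLt; simp; omega)]
      rfl
  rw [this]
  exact genImg_of5 g

theorem proj_rel {ι : LyMat.Q →* E} (hι : Iota π ι) {Z : E} (hZ : π Z = PresentedGroup.of Ly.Gen.z)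
    {r : FreeGroup Ly.Gen} (hr : r ∈ Ly.extra) : π (ev ι Z r) = 1 := by
  rw [← MonoidHom.comp_apply, proj_ev hι hZ]
  exact PresentedGroup.one_of_mem (Or.inr hr)

theorem ev_early {ι : LyMat.Q →* E} (hι : Iota π ι) {Z : E} (hZ : π Z = PresentedGroup.of Ly.Gen.z)
    (k : Nat) (hk : k < 72) (hk' : k < Ly.extra.length) : ev ι Z Ly.extra[k] = 1 := by
  have hp := proj_rel hι hZ (List.getElem_mem hk')
  rw [← FreeGroup.mk_toWord (x := Ly.extra[k]), ev, lift_genImg] at hp ⊢
  have hl : (expW Ly.extra[k].toWord).map code ∈ lits.take 72 :=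
    List.mem_iff_getElem.2 ⟨k, by simp [lits]; omega, by
      simp only [List.getElem_take, ← lits_eq, List.getElem_map]⟩
  have hz : ∀ p ∈ expW Ly.extra[k].toWord, p.1.val ≠ 4 := by
    intro p hp he
    have h := List.all_eq_true.1 (List.all_eq_true.1 early_no_z _ hl) _ (List.mem_map_of_mem hp)
    obtain ⟨i, s⟩ := p
    simp only at he
    cases s <;> simp [code, he] at h
  have e := lift_eq ι Z _ hz
  change FreeGroup.lift (u5 ι Z) _ = _ at e
  rw [e] at hp ⊢
  exact hι.inj _ hp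

end Cfsg.Agent.LyMult
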