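import Cfsg.Agent.LyMult.Sound

/-! The Schur multiplier of the presented Lyons group is trivial, given the index of `G2(5)`. -/

set_option autoImplicit false
set_option maxRecDepth 100000

namespace Cfsg.Agent.LyMult

open Cfsg Cfsg.Spor Cfsg.Agent.LyMat
open Cfsg.Agent.DCoset Cfsg.Agent.CosetCert
open scoped commutatorElement

theorem found_check : (found.all fun sv => Nat.blt sv.1 steps.len && Nat.beq (steps.fI sv.1) (steps.fJ sv.1) &&
    Nat.beq (steps.fT sv.1) 0 && Nat.beq (steps.fK sv.1) wtab.base &&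
    Nat.beq (steps.fH sv.1) (pk16 (8 + 3) (flds cyc (fun i => sv.2.getD i 0) (fld tab.base)))) = true := by
  decide +kernel

theorem src_check : allFrom (fun j => Nat.blt (steps.nodeSrc j) j) 1 (steps.nNode - 1) = true := by
  decide +kernel

theorem in_check : allFrom (fun s => Bool.rec (motive := fun _ => Bool) true
    (lettersBelow 8 (steps.argW s % 65536) (steps.argW s / 65536)) (Nat.beq (steps.kind s) 1)) 0 steps.len
      = true := by
  decide +kernel

/-- The exponents of a combination of the found facts. -/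
def combE : List (Nat × Nat × List Nat) → Nat → Nat
  | [], _ => 0
  | (c, _, v) :: l, i => c * v.getD i 0 + combE l i

theorem combo_check : allFrom (fun u => allFrom (fun i =>
    Nat.beq (combE ((combo.getD u []).zip found) i % cyc.len i) ((if i = u then 1 else 0) % cyc.len i)) 0 8) 0 8
      = true := by
  decide +kernel

variable {E : Type} [Group E] {π : E →* PresentedGroup lyRels} {ι : LyMat.Q →* E} {Z : E} {kv : Nat → E}

theorem kv_eq_one (hι : Iota π ι) (hk : ∀ i, i < 8 → π (kv i) = 1) (H : Eqs ι Z kv) :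
    ∀ i, i < 8 → kv i = 1 := by
  let Hs : Subgroup E := ι.range
  have hin : ∀ s, s < steps.len → steps.kind s = 1 → val (model H).lv (steps.argW s) ∈ Hs := by
    intro s hs h1
    have h := allFrom_all in_check hs
    rw [h1] at h
    exact valW_mem _ 8 Hs (fun x hx => ⟨Ly.qL x, (if_pos (show x < qModel.nL from hx)).symm⟩) _ _ h
  have hall := Steps.holds_of_in (D := steps) (Hs := Hs) (sound H) hin
    (fun j h1 h2 => Nat.le_of_ble_eq_true ((allFrom_iff _ _ _).1 src_check j h1 (by omega)))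
    (show 0 < 3 by norm_num) steps_ok
  have hfound : ∀ sv ∈ found, kp kv 8 (fun i => sv.2.getD i 0) = 1 := by
    intro sv hsv
    have h := List.all_eq_true.1 found_check sv hsv
    simp only [Bool.and_eq_true] at h
    obtain ⟨⟨⟨⟨hs, hij⟩, hT⟩, hK⟩, hH⟩ := h
    obtain ⟨-, x, y, hx, hy, hmem⟩ := hall sv.1 (Nat.le_of_ble_eq_true hs)
    rw [Nat.eq_of_beq_eq_true hH] at hx
    rw [Nat.eq_of_beq_eq_true hK] at hy
    rw [Nat.eq_of_beq_eq_true hT, ← Nat.eq_of_beq_eq_true hij] at hmem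
    obtain ⟨h0, hh0, ht0⟩ := qModel_below 1
    have hwit : (model H).R (pk16 (8 + 3) (flds cyc (fun i => sv.2.getD i 0) (fld tab.base)))
        (kp kv 8 fun i => sv.2.getD i 0) :=
      ⟨1, fun i => sv.2.getD i 0, h0, hh0, ht0, (flds_base _ hh0 (qModel.one.symm.trans ht0)).symm,
        by rw [map_one, one_mul]; rfl⟩
    rw [(model H).uniq _ _ _ hx hwit, (model H).uniq _ _ _ hy (model H).one] at hmem
    have hc := Subgroup.mem_center_iff.1 (kp_mem kv _ 8 (fun i => sv.2.getD i 0) H.central)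
    simp only [Tv, if_true, mul_one, inv_one] at hmem
    rw [hc, mul_inv_cancel_right] at hmem
    obtain ⟨q, hq⟩ := hmem
    rw [← hq]
    exact hι.inj q (by
      rw [hq]
      exact MonoidHom.mem_ker.1 (kp_mem kv π.ker 8 _ fun i hi => MonoidHom.mem_ker.2 (hk i hi)))
  have hcomb : ∀ l : List (Nat × Nat × List Nat), (∀ e ∈ l, e.2 ∈ found) → kp kv 8 (combE l) = 1 := by
    intro l
    induction l with
    | nil => exact fun _ => kp_zero kv 8
    | cons e l ih =>
      intro hl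
      obtain ⟨c, s, v⟩ := e
      show kp kv 8 (fun i => c * v.getD i 0 + combE l i) = 1
      rw [kp_add kv _ _ 8 H.central, kp_nsmul kv 8 H.central,
        hfound (s, v) (hl _ List.mem_cons_self), one_pow, one_mul,
        ih fun e he => hl e (List.mem_cons_of_mem _ he)]
  intro u hu
  have h1 := hcomb ((combo.getD u []).zip found) fun e he => (List.of_mem_zip (show (e.1, e.2) ∈ _ from he)).2
  have h2 : kp kv 8 (combE ((combo.getD u []).zip found)) = kp kv 8 (fun i => if i = u then 1 else 0) := by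
    refine kp_congr kv 8 fun i hi => ?_
    have e := Nat.eq_of_beq_eq_true (allFrom_all (allFrom_all combo_check hu) hi)
    rw [pow_eq_pow_mod _ (H.order i hi), e, ← pow_eq_pow_mod _ (H.order i hi)]
  rw [h1, kp_single, if_pos hu, pow_one] at h2
  exact h2.symm

theorem gw_ug_pow : ∀ k, k < 8 → qw (gw (ug k)) ^ (if k < 5 then 5 else 8) = 1 := by
  intro k hk
  rw [← qw_pow]
  interval_cases k <;> exact qw_eq_one _ (by decide +kernel)

theorem gw_xg_pow : ∀ k, k < 8 → qw (gw (xg k)) ^ (if k < 5 then 5 else 8) = 1 := by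
  intro k hk
  rw [← qw_pow]
  interval_cases k <;> exact qw_eq_one _ (by decide +kernel)

/-- A central extension by elements of order dividing 324 splits. -/
theorem exists_splitting [Finite E] (hs : Function.Surjective π) (hc : π.ker ≤ Subgroup.center E)
    (h324 : ∀ x ∈ π.ker, x ^ 324 = 1) :
    ∃ s : PresentedGroup lyRels →* E, π.comp s = MonoidHom.id _ := by
  obtain ⟨ι, hι⟩ := exists_iota π hs hc
  obtain ⟨z0, hz0⟩ := hs (PresentedGroup.of Ly.Gen.z)
  let A := ι (qw (gw .a4))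
  let U := ι (qw (gw .u))
  have hker : ∀ {Z : E}, π Z = PresentedGroup.of Ly.Gen.z → ∀ r ∈ Ly.extra, ev ι Z r ∈ π.ker :=
    fun hZ r hr => MonoidHom.mem_ker.2 (proj_rel hι hZ hr)
  have hev81 : ∀ Z, ev ι Z (Ly.z ^ 2 * Ly.u⁻¹) = Z ^ 2 * U⁻¹ := fun Z => by
    simp only [map_mul, map_inv, map_pow, ev_z, ev_gen ι Z _ (show Ly.Gen.u ≠ .z by decide), U]
  have hev82 : ∀ Z, ev ι Z ((Ly.a4 * Ly.z) ^ 3 * Ly.u) = (A * Z) ^ 3 * U := fun Z => by
    simp only [map_mul, map_pow, ev_z, ev_gen ι Z _ (show Ly.Gen.u ≠ .z by decide),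
      ev_gen ι Z _ (show Ly.Gen.a4 ≠ .z by decide), U, A]
  have m81 : (Ly.z ^ 2 * Ly.u⁻¹) ∈ Ly.extra := by decide +kernel
  have m82 : ((Ly.a4 * Ly.z) ^ 3 * Ly.u) ∈ Ly.extra := by decide +kernel
  let v81 := z0 ^ 2 * U⁻¹
  let v82 := (A * z0) ^ 3 * U
  have c81 : v81 ∈ π.ker := by
    rw [show v81 = _ from (hev81 z0).symm]; exact hker hz0 _ m81
  have c82 : v82 ∈ π.ker := by
    rw [show v82 = _ from (hev82 z0).symm]; exact hker hz0 _ m82
  let m := v82⁻¹ * v81
  have cm : m ∈ π.ker := mul_mem (inv_mem c82) c81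
  have hm := Subgroup.mem_center_iff.1 (hc cm)
  let Z := z0 * m
  have hZ : π Z = PresentedGroup.of Ly.Gen.z := by
    rw [map_mul, MonoidHom.mem_ker.1 cm, mul_one, hz0]
  have hscale : (A * Z) ^ 3 * U = Z ^ 2 * U⁻¹ := by
    have e3 : (A * Z) ^ 3 = (A * z0) ^ 3 * m ^ 3 := by
      rw [show A * Z = A * z0 * m from (mul_assoc A z0 m).symm, Commute.mul_pow (hm _)]
    have e2 : Z ^ 2 = z0 ^ 2 * m ^ 2 := Commute.mul_pow (hm _) 2
    rw [e3, e2, mul_assoc, ← Subgroup.mem_center_iff.1 (pow_mem (hc cm) 3) U, ← mul_assoc,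
      mul_assoc (z0 ^ 2), ← Subgroup.mem_center_iff.1 (pow_mem (hc cm) 2) U⁻¹, ← mul_assoc]
    show v82 * m ^ 3 = v81 * m ^ 2
    rw [pow_succ', ← mul_assoc, show v82 * m = v81 from mul_inv_cancel_left v82 v81]
  let kv : Nat → E := fun i => [ev ι Z ((Ly.z⁻¹ * Ly.a1 * Ly.z) * Ly.x167⁻¹),
    ev ι Z ((Ly.z⁻¹ * Ly.a2 * Ly.z) * Ly.x168⁻¹), ev ι Z ((Ly.z⁻¹ * Ly.a3 * Ly.z) * Ly.x169⁻¹),
    ev ι Z (Ly.z ^ 2 * Ly.u⁻¹), ev ι Z (Ly.x47 * Ly.z * Ly.x364 * Ly.z * Ly.x368 * Ly.z),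
    ev ι Z (Ly.z⁻¹ * Ly.x24 * Ly.z⁻¹ * Ly.x369 * Ly.z * Ly.x23 * Ly.z * Ly.x29),
    ev ι Z (Ly.z * Ly.x366 * Ly.z * Ly.x365 * Ly.z⁻¹ * Ly.x367 * Ly.z⁻¹ * Ly.x370),
    ev ι Z (Ly.z * Ly.x96 * Ly.z * Ly.x25 * Ly.z⁻¹ * Ly.x129 * Ly.z⁻¹ * Ly.x371)].getD i 1
  have hkk : ∀ i, i < 8 → kv i ∈ π.ker := by
    intro i hi
    interval_cases i <;> exact hker hZ _ (by decide +kernel)
  have horder : ∀ (g x : LyMat.Q) (n : Nat) (v : E), v ∈ π.ker → Z⁻¹ * ι g * Z * (ι x)⁻¹ = v →
      g ^ n = 1 → x ^ n = 1 → v ^ n = 1 := by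
    intro g x n v hv e hg hx
    have h1 : v * ι x = Z⁻¹ * ι g * Z := by rw [← e, inv_mul_cancel_right]
    have h2 : (v * ι x) ^ n = v ^ n := by
      rw [Commute.mul_pow ((Subgroup.mem_center_iff.1 (hc hv) _).symm), ← map_pow, hx, map_one, mul_one]
    have h3 := conj_pow (i := n) (a := Z⁻¹) (b := ι g)
    rw [inv_inv] at h3
    rw [← h2, h1, h3, ← map_pow, hg, map_one, mul_one, inv_mul_cancel]
  have hconj : ∀ k, k < 8 → Z⁻¹ * ι (qw (gw (ug k))) * Z * (ι (qw (gw (xg k))))⁻¹ =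
      [ev ι Z ((Ly.z⁻¹ * Ly.c1 * Ly.z) * Ly.x162⁻¹), ev ι Z ((Ly.z⁻¹ * Ly.c2 * Ly.z) * Ly.x163⁻¹),
        ev ι Z ((Ly.z⁻¹ * Ly.c3 * Ly.z) * Ly.x164⁻¹), ev ι Z ((Ly.z⁻¹ * Ly.c4 * Ly.z) * Ly.x165⁻¹),
        ev ι Z ((Ly.z⁻¹ * Ly.c5 * Ly.z) * Ly.x166⁻¹), ev ι Z ((Ly.z⁻¹ * Ly.a1 * Ly.z) * Ly.x167⁻¹),
        ev ι Z ((Ly.z⁻¹ * Ly.a2 * Ly.z) * Ly.x168⁻¹),
        ev ι Z ((Ly.z⁻¹ * Ly.a3 * Ly.z) * Ly.x169⁻¹)].getD k 1 := by
    intro k hk
    interval_cases k <;>
      simp [ug, xg, map_mul, map_inv, ev_z, ev_gen]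
  have hconjk : ∀ k, k < 8 → Z⁻¹ * ι (qw (gw (ug k))) * Z * (ι (qw (gw (xg k))))⁻¹ ∈ π.ker := by
    intro k hk
    rw [hconj k hk]
    interval_cases k <;> exact hker hZ _ (by decide +kernel)
  have hc5 : ∀ k, k < 5 → Z⁻¹ * ι (qw (gw (ug k))) * Z * (ι (qw (gw (xg k))))⁻¹ = 1 := by
    intro k hk
    have h1 := gw_ug_pow k (by omega)
    have h2 := gw_xg_pow k (by omega)
    rw [if_pos hk] at h1 h2
    have h5 := horder _ _ 5 _ (hconjk k (by omega)) rfl h1 h2
    have h324' := h324 _ (hconjk k (by omega))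
    have := pow_gcd_eq_one.2 ⟨h5, h324'⟩
    simpa using this
  have H : Eqs ι Z kv := by
    refine ⟨fun i hi => hc (hkk i hi), ?_, ?_, ?_, ?_, ?_, ?_, ?_, ?_⟩
    · intro i hi
      rcases Nat.lt_or_ge i 3 with h3 | h3
      · have h1 := gw_ug_pow (i + 5) (by omega)
        have h2 := gw_xg_pow (i + 5) (by omega)
        rw [if_neg (by omega)] at h1 h2
        have e : Z⁻¹ * ι (qw (gw (ug (i + 5)))) * Z * (ι (qw (gw (xg (i + 5)))))⁻¹ = kv i := by
          rw [hconj (i + 5) (by omega)]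
          interval_cases i <;> rfl
        have h8 := horder _ _ 8 _ (hkk i hi) e h1 h2
        have := pow_gcd_eq_one.2 ⟨h8, h324 _ (hkk i hi)⟩
        norm_num at this
        interval_cases i <;> exact this
      · have := h324 _ (hkk i hi)
        interval_cases i <;> exact this
    · intro k hk
      have key : Z⁻¹ * ι (qw (gw (ug k))) * Z * (ι (qw (gw (xg k))))⁻¹ =
          if k < 5 then 1 else kv (k - 5) := by
        split_ifs with h5
        · exact hc5 k h5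
        · rw [hconj k hk]
          interval_cases k <;> first | omega | rfl
      have hcen : (if k < 5 then 1 else kv (k - 5)) ∈ Subgroup.center E := by
        split_ifs with h5
        · exact one_mem _
        · exact hc (hkk _ (by omega))
      rw [mul_inv_eq_iff_eq_mul] at key
      rw [Subgroup.mem_center_iff.1 hcen, ← key]
      group
    · show Z * Z = kv 3 * ι (qw (gw .u))
      rw [show kv 3 = Z ^ 2 * U⁻¹ from hev81 Z, inv_mul_cancel_right, pow_two]
    · rw [show kv 3 = Z ^ 2 * U⁻¹ from hev81 Z]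
      exact hscale
    all_goals simp [kv, map_mul, map_inv, ev_z, ev_gen]
  have hk1 := kv_eq_one hι (fun i hi => MonoidHom.mem_ker.1 (hkk i hi)) H
  have hrels : ∀ r ∈ lyRels, FreeGroup.lift (genImg (u5 ι Z)) r = 1 := by
    intro r hr
    obtain ⟨k, hk, rfl⟩ := List.mem_iff_getElem.1 (rels_mem hr)
    rcases Nat.lt_or_ge k 72 with h | h
    · exact ev_early hι hZ k h hk
    · have hk86 : k < 86 := extra_length ▸ hk
      have hc' : ∀ j, j < 5 → Z⁻¹ * ι (qw (gw (ug j))) * Z * (ι (qw (gw (xg j))))⁻¹ = 1 := hc5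
      have g : ∀ j, j < 8 → kv j = 1 := hk1
      interval_cases k
      · exact (hconj 0 (by norm_num)).symm.trans (hc' 0 (by norm_num))
      · exact (hconj 1 (by norm_num)).symm.trans (hc' 1 (by norm_num))
      · exact (hconj 2 (by norm_num)).symm.trans (hc' 2 (by norm_num))
      · exact (hconj 3 (by norm_num)).symm.trans (hc' 3 (by norm_num))
      · exact (hconj 4 (by norm_num)).symm.trans (hc' 4 (by norm_num))
      · exact g 0 (by norm_num)
      · exact g 1 (by norm_num)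
      · exact g 2 (by norm_num)
      · exact g 3 (by norm_num)
      · show ev ι Z ((Ly.a4 * Ly.z) ^ 3 * Ly.u) = 1
        rw [hev82, hscale, ← hev81]
        exact g 3 (by norm_num)
      · exact g 4 (by norm_num)
      · exact g 5 (by norm_num)
      · exact g 6 (by norm_num)
      · exact g 7 (by norm_num)
  refine ⟨PresentedGroup.toGroup hrels, PresentedGroup.ext fun g => ?_⟩
  rw [MonoidHom.comp_apply, PresentedGroup.toGroup.of, MonoidHom.id_apply,
    ← FreeGroup.lift_apply_of (f := genImg (u5 ι Z)) (x := g)]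
  exact DFunLike.congr_fun (proj_ev hι hZ) (FreeGroup.of g)

/-- The multiplier is trivial once the index of the subgroup is known. -/
theorem multiplier (hidx : lyH.index = 8835156) : HasCyclicSchurMultiplier Spor.Ly 1 := by
  have hfin : Finite Spor.Ly := (finite_ly hidx).1
  refine ProjExt.Stem.hasCyclicSchurMultiplier_one fun Γ _ _ σ hσ => ?_
  obtain ⟨hs, hc, hd⟩ := hσ
  obtain ⟨s, hsσ⟩ := exists_splitting (π := σ) hs hc fun x hx => killed_ly hidx Γ σ hs hc x hx (hd hx)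
  have hid : ∀ y, σ (s y) = y := DFunLike.congr_fun hsσ
  have hsplit : ∀ x : Γ, ∃ z : Γ, x = s (σ x) * z ∧ ∀ y, z * y = y * z := fun x =>
    ⟨(s (σ x))⁻¹ * x, by group, fun y => (Subgroup.mem_center_iff.1
      (hc (show (s (σ x))⁻¹ * x ∈ σ.ker by rw [MonoidHom.mem_ker, map_mul, map_inv, hid, inv_mul_cancel])) y).symm⟩
  have hle : commutator Γ ≤ s.range := by
    rw [commutator_def, Subgroup.commutator_le]
    intro x _ y _
    obtain ⟨z, hx, hz⟩ := hsplit x
    obtain ⟨w, hy, hw⟩ := hsplit y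
    refine ⟨⁅σ x, σ y⁆, ?_⟩
    rw [map_commutatorElement]
    conv_rhs => rw [hx, hy]
    generalize s (σ x) = a, s (σ y) = b
    simp only [commutatorElement_def, mul_inv_rev]
    calc a * b * a⁻¹ * b⁻¹
        = a * b * (a⁻¹ * w) * w⁻¹ * b⁻¹ := by group
      _ = a * b * (w * a⁻¹) * w⁻¹ * b⁻¹ := by rw [hw]
      _ = a * ((b * w) * z) * z⁻¹ * a⁻¹ * (w⁻¹ * b⁻¹) := by group
      _ = a * (z * (b * w)) * z⁻¹ * a⁻¹ * (w⁻¹ * b⁻¹) := by rw [hz]
      _ = _ := by group
  rw [eq_bot_iff]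
  intro x hx
  obtain ⟨y, rfl⟩ := hle (hd hx)
  rw [MonoidHom.mem_ker, hid] at hx
  rw [hx, map_one]
  exact one_mem _

end Cfsg.Agent.LyMult
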