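import Cfsg.Agent.DCoset.PermModel
import Cfsg.Agent.DCoset.Steps

/-!
A model of a subgroup times finitely many central elements of bounded order: each central
element gets a cycle of extra points, and a tuple carries one more field for each of them.
-/

set_option autoImplicit false

namespace Cfsg.Agent.LyMult

open Cfsg.Agent.DCoset Cfsg.Agent.CosetCert

/-- Cycles of extra points and the letters turning them. -/
structure Cyc where
  /-- number of cycles -/
  r : Nat
  off : Nat → Nat
  len : Nat → Nat
  /-- number of letters -/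
  nW : Nat
  idx : Nat → Nat
  inc : Nat → Nat

/-- What is needed of the cycles above `N` ordinary points. -/
structure Cyc.Ok (C : Cyc) (N : Nat) : Prop where
  pos : ∀ i, i < C.r → 0 < C.len i ∧ N ≤ C.off i ∧ C.off i + C.len i ≤ 65536
  apart : ∀ i, i < C.r → ∀ i', i' < C.r → i ≠ i' →
    C.off i + C.len i ≤ C.off i' ∨ C.off i' + C.len i' ≤ C.off i
  idx_lt : ∀ j, j < C.nW → C.idx j < C.r

/-- Turn the cycle at `lo` of length `m` by `c`. -/
noncomputable def rot (lo m c p : Nat) : Nat :=
  Bool.rec (motive := fun _ => Nat) p (Bool.rec (motive := fun _ => Nat) p (Nat.add lo (Nat.mod (Nat.add (Nat.sub p lo) c) m))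
    (Nat.blt p (Nat.add lo m))) (Nat.ble lo p)

theorem rot_eq (lo m c p : Nat) :
    rot lo m c p = if lo ≤ p ∧ p < lo + m then lo + (p - lo + c) % m else p := by
  unfold rot
  cases h1 : Nat.ble lo p
  · have : ¬ lo ≤ p := fun h => by simp [Nat.ble_eq_true_of_le h] at h1
    simp [this]
  · cases h2 : Nat.blt p (Nat.add lo m)
    · have : ¬ p < lo + m := fun h => by
        have := Nat.ble_eq_true_of_le (show p + 1 ≤ lo + m from h)
        exact absurd (h2.symm.trans this) (by simp)
      simp [this]
    · rw [if_pos ⟨Nat.le_of_ble_eq_true h1, Nat.le_of_ble_eq_true h2⟩]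
      rfl

/-- The letters of `T`, then those turning the cycles. -/
noncomputable def wTab (T : Tab) (N : Nat) (C : Cyc) (base : Nat) : Tab where
  k := Nat.add C.r T.k
  nL := Nat.add T.nL C.nW
  act g p := Bool.rec (motive := fun _ => Nat)
    (rot (C.off (C.idx (Nat.sub g T.nL))) (C.len (C.idx (Nat.sub g T.nL))) (C.inc (Nat.sub g T.nL)) p)
    (Bool.rec (motive := fun _ => Nat) p (T.act g p) (Nat.blt p N)) (Nat.blt g T.nL)
  base := base

theorem wTab_act (T : Tab) (N : Nat) (C : Cyc) (b g p : Nat) : (wTab T N C b).act g p =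
    if g < T.nL then (if p < N then T.act g p else p) else
      rot (C.off (C.idx (g - T.nL))) (C.len (C.idx (g - T.nL))) (C.inc (g - T.nL)) p := by
  show Bool.rec (motive := fun _ => Nat) _ _ (Nat.blt g T.nL) = _
  by_cases h1 : g < T.nL
  · rw [show Nat.blt g T.nL = true from Nat.ble_eq_true_of_le h1, if_pos h1]
    by_cases h2 : p < N
    · rw [show Nat.blt p N = true from Nat.ble_eq_true_of_le h2, if_pos h2]
    · rw [show Nat.blt p N = false from Bool.eq_false_iff.2 fun h => h2 (Nat.le_of_ble_eq_true h), if_neg h2]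
  · rw [show Nat.blt g T.nL = false from Bool.eq_false_iff.2 fun h => h1 (Nat.le_of_ble_eq_true h), if_neg h1]
    rfl

variable {G : Type*} [Group G]

/-- `k 0 ^ e 0 * ⋯ * k (n - 1) ^ e (n - 1)`. -/
def kp (k : Nat → G) : Nat → (Nat → Nat) → G
  | 0, _ => 1
  | n + 1, e => kp k n e * k n ^ e n

theorem kp_congr (k : Nat → G) : ∀ n {e e' : Nat → Nat},
    (∀ i, i < n → k i ^ e i = k i ^ e' i) → kp k n e = kp k n e'
  | 0, _, _, _ => rfl
  | n + 1, e, e', h => by rw [kp, kp, kp_congr k n fun i hi => h i (by omega), h n (by omega)]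

theorem kp_zero (k : Nat → G) : ∀ n, kp k n (fun _ => 0) = 1
  | 0 => rfl
  | n + 1 => by rw [kp, kp_zero k n, pow_zero, mul_one]

theorem kp_mem (k : Nat → G) (S : Subgroup G) : ∀ n e, (∀ i, i < n → k i ∈ S) → kp k n e ∈ S
  | 0, _, _ => S.one_mem
  | n + 1, e, h => S.mul_mem (kp_mem k S n e fun i hi => h i (by omega)) (S.pow_mem (h n (by omega)) _)

theorem kp_add (k : Nat → G) (e e' : Nat → Nat) : ∀ n,
    (∀ i, i < n → k i ∈ Subgroup.center G) →
      kp k n (fun i => e i + e' i) = kp k n e * kp k n e'
  | 0, _ => (one_mul 1).symm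
  | n + 1, h => by
    have hc := Subgroup.mem_center_iff.1 ((Subgroup.center G).pow_mem (h n (by omega)) (e n))
      (kp k n e')
    rw [kp, kp, kp, kp_add k e e' n fun i hi => h i (by omega), pow_add]
    calc kp k n e * kp k n e' * (k n ^ e n * k n ^ e' n)
        = kp k n e * (kp k n e' * k n ^ e n) * k n ^ e' n := by group
      _ = kp k n e * (k n ^ e n * kp k n e') * k n ^ e' n := by rw [hc]
      _ = _ := by group

theorem kp_single (k : Nat → G) (j c : Nat) : ∀ n,
    kp k n (fun i => if i = j then c else 0) = if j < n then k j ^ c else 1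
  | 0 => by simp [kp]
  | n + 1 => by
    rw [kp, kp_single k j c n]
    rcases lt_trichotomy j n with h | h | h
    · rw [if_pos h, if_neg (by omega), pow_zero, mul_one, if_pos (by omega)]
    · rw [h, if_neg (by omega), if_pos rfl, one_mul, if_pos (by omega)]
    · rw [if_neg (by omega), if_neg (by omega), pow_zero, mul_one, if_neg (by omega)]

theorem kp_nsmul (k : Nat → G) (n : Nat) (hk : ∀ i, i < n → k i ∈ Subgroup.center G)
    (e : Nat → Nat) : ∀ c : Nat, kp k n (fun i => c * e i) = kp k n e ^ c
  | 0 => by simpa using kp_zero k n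
  | c + 1 => by
    rw [pow_succ, ← kp_nsmul k n hk e c, ← kp_add k _ _ n hk]
    exact kp_congr k n fun i _ => by rw [add_one_mul]

variable {Q : Type*} [Group Q]

/-- The fields of the central elements followed by those of the subgroup. -/
def flds (C : Cyc) (e h : Nat → Nat) (i : Nat) : Nat :=
  if i < C.r then C.off i + e i % C.len i else h (i - C.r)

theorem flds_lt {C : Cyc} {N : Nat} (hC : C.Ok N) (hN : N ≤ 65536) (e : Nat → Nat)
    {h : Nat → Nat} (hh : ∀ i, h i < N) (i : Nat) : flds C e h i < 65536 := by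
  unfold flds
  split_ifs with hi
  · obtain ⟨h1, -, h3⟩ := hC.pos i hi
    have := Nat.mod_lt (e i) h1
    omega
  · exact lt_of_lt_of_le (hh _) hN

/-- The tuples of `P` count points below `N`. -/
def Below (P : QModel Q) (N : Nat) : Prop :=
  ∀ a, ∃ h : Nat → Nat, (∀ i, h i < N) ∧ P.tup a = pk16 P.k h

/-- The model of the subgroup times the central elements. -/
noncomputable def wModel (P : QModel Q) {N : Nat} (hN : N ≤ 65536) (hP : Below P N) (C : Cyc) (hC : C.Ok N)
    (base : Nat) (hb : ∀ h : Nat → Nat, (∀ i, h i < N) → P.base = pk16 P.k h →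
      base = pk16 (C.r + P.k) (flds C (fun _ => 0) h))
    (ι : Q →* G) (k : Nat → G) (hk : ∀ i, i < C.r → k i ∈ Subgroup.center G)
    (hkm : ∀ i, i < C.r → k i ^ C.len i = 1) : Model G where
  toTab := wTab P.toTab N C base
  lv g := if g < P.nL then ι (P.q g) else k (C.idx (g - P.nL)) ^ C.inc (g - P.nL)
  R v x := ∃ a e h, (∀ i, h i < N) ∧ P.tup a = pk16 P.k h ∧
    v = pk16 (C.r + P.k) (flds C e h) ∧ x = ι a * kp k C.r e
  one := by
    obtain ⟨h, hh, e⟩ := hP 1
    exact ⟨1, fun _ => 0, h, hh, e, hb h hh (P.one ▸ e), by rw [map_one, kp_zero, one_mul]⟩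
  step := by
    rintro v x g hg ⟨a, e, h, hh, ht, rfl, rfl⟩
    rw [show (wTab P.toTab N C base).k = C.r + P.k from rfl,
      mapTup_pk16 _ _ _ (flds_lt hC hN e hh)]
    simp only [wTab_act]
    by_cases hgL : g < P.nL
    · simp only [if_pos hgL]
      obtain ⟨h', hh', ht'⟩ := hP (a * P.q g)
      have hact : ∀ l, l < P.k → h' l = P.act g (h l) := fun l hl => by
        have e1 := P.step a g hgL
        rw [ht', ht, mapTup_pk16 _ _ _ (fun i => lt_of_lt_of_le (hh i) hN)] at e1
        have e2 := congrArg (fun v => fld v l) e1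
        rwa [fld_pk16 _ _ (fun i => lt_of_lt_of_le (hh' i) hN) _ hl,
          fld_pk16 _ _ (fun i => P.act_lt _ _) _ hl] at e2
      refine ⟨a * P.q g, e, h', hh', ht', pk16_congr _ fun l hl => ?_, ?_⟩
      · unfold flds
        by_cases hlr : l < C.r
        · obtain ⟨-, h2, -⟩ := hC.pos l hlr
          rw [if_pos hlr, if_neg (by omega)]
          rw [if_pos hlr]
        · rw [if_neg hlr, if_neg hlr, if_pos (hh _), hact _ (by omega)]
      · rw [map_mul, mul_assoc,
          ← Subgroup.mem_center_iff.1 (kp_mem k _ C.r e hk) (ι (P.q g)), ← mul_assoc]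
    · simp only [if_neg hgL]
      have hj : g - P.nL < C.nW := by
        change g < P.nL + C.nW at hg
        omega
      have hi := hC.idx_lt _ hj
      generalize g - P.nL = j at hi
      refine ⟨a, fun i => e i + if i = C.idx j then C.inc j else 0, h, hh, ht,
        pk16_congr _ fun l hl => ?_, ?_⟩
      · rw [rot_eq]
        obtain ⟨p1, p2, p3⟩ := hC.pos _ hi
        unfold flds
        by_cases hlr : l < C.r
        · simp only [if_pos hlr]
          obtain ⟨q1, q2, q3⟩ := hC.pos _ hlr
          have q4 := Nat.mod_lt (e l) q1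
          by_cases hli : l = C.idx j
          · subst hli
            rw [if_pos ⟨by omega, by omega⟩, if_pos rfl, Nat.add_sub_cancel_left, Nat.mod_add_mod]
          · rw [if_neg hli, Nat.add_zero, if_neg]
            have := hC.apart l hlr _ hi hli
            omega
        · simp only [if_neg hlr]
          rw [if_neg]
          have := hh (l - C.r)
          omega
      · rw [kp_add k _ _ C.r hk, kp_single, if_pos hi, mul_assoc]
  uniq := by
    rintro v x y ⟨a, e, h, hh, ht, rfl, rfl⟩ ⟨b, e', h', hh', ht', hv, rfl⟩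
    have hl : ∀ l, l < C.r + P.k → flds C e h l = flds C e' h' l := fun l hl => by
      have := congrArg (fun v => fld v l) hv
      rwa [fld_pk16 _ _ (flds_lt hC hN e hh) _ hl, fld_pk16 _ _ (flds_lt hC hN e' hh') _ hl] at this
    have hab : a = b := P.inj (by
      rw [ht, ht']
      exact pk16_congr _ fun l hl' => by simpa [flds] using hl (C.r + l) (by omega))
    rw [hab, kp_congr k C.r fun i hi => ?_]
    have := hl i (by omega)
    simp only [flds, if_pos hi, Nat.add_left_cancel_iff] at this
    rw [pow_eq_pow_mod _ (hkm i hi), this, ← pow_eq_pow_mod _ (hkm i hi)]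

end Cfsg.Agent.LyMult
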