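import Cfsg.Agent.LyMult.ChainData
import Cfsg.Agent.LyMult.WModel
import Cfsg.Agent.DCoset.Ly.Model

/-! The group presented by the first 44 relators, told apart by three points. -/

set_option autoImplicit false

namespace Cfsg.Agent.LyMult

open Cfsg.Agent.DCoset Cfsg.Agent.CosetCert

/-- The base points. -/
def bp (l : Nat) : Fin 3906 := Fin.ofNat 3906 ([0, 1, 20].getD l 0)

theorem acts : Acts Ly.rho tab Ly.qL bp where
  small := by norm_num
  act_eq g hg p := Ly.acts.act_eq g hg p
  act_lt := tab_act_lt
  base_eq := by decide +kernel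

theorem faithful : ∀ a : LyMat.Q, (∀ l, l < tab.k → (Ly.rho a)⁻¹ (bp l) = bp l) → a = 1 :=
  have := Ly.q_finite
  acts.faithful chain LyMat.q_card.2 (by decide +kernel)
    (fun l a hl ha => allFrom_all (allFrom_all chain_gen hl : _) ha)
    (fun l m hl hm => allFrom_all (allFrom_all chain_pt hl : _) hm)

/-- The model of the subgroup. -/
noncomputable def qModel : QModel LyMat.Q := acts.toQModel faithful

theorem qModel_below : Below qModel 3906 :=
  fun a => ⟨fun l => ((Ly.rho a)⁻¹ (bp l)).val, fun l => ((Ly.rho a)⁻¹ (bp l)).isLt, rfl⟩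

end Cfsg.Agent.LyMult
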