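import Cfsg.Agent.LyMult.Table

/-! Generated: rules and relators. -/

set_option Elab.async false

namespace Cfsg.Agent.LyMult

open Cfsg.Agent.DCoset Cfsg.Agent.CosetCert

def rSS : Store := (.leaf 0x20001000200020002000200020002000200020001000100010001000100010001000100020002000200020002000200020002000200020002000200020001000100010001000100010001000100010001000100010001000000000000000000000000000000000000000000000000000000000000000000000000000000000000)

noncomputable def rS : Nat → Nat := get16 rSS

def rDS : Store := (.leaf 0x10002000200020002000200020002000200020001000100010001000100010001000100020002000200020002000200020002000200020002000200020001000100010001000100010001000100010001000100010001000000000000000000000000000000000000000000000000000000000000000000000000000000000000)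

noncomputable def rD : Nat → Nat := get16 rDS

def rUS_1 : Store := (.node 16 (.node 8 (.node 4 (.node 2 (.node 1 (.leaf 0x1) (.leaf 0x10001)) (.node 3 (.leaf 0x20001) (.leaf 0x30001))) (.node 6 (.node 5 (.leaf 0x40001) (.leaf 0x50001)) (.node 7 (.leaf 0x60001) (.leaf 0x70001)))) (.node 12 (.node 10 (.node 9 (.leaf 0x80001) (.leaf 0x90001)) (.node 11 (.leaf 0xa0001) (.leaf 0xb0001))) (.node 14 (.node 13 (.leaf 0xc0001) (.leaf 0xd0001)) (.node 15 (.leaf 0xe0001) (.leaf 0xf0001))))) (.node 24 (.node 20 (.node 18 (.node 17 (.leaf 0x100001) (.leaf 0x110001)) (.node 19 (.leaf 0x120001) (.leaf 0x130001))) (.node 22 (.node 21 (.leaf 0x140001) (.leaf 0x80001)) (.node 23 (.leaf 0x90001) (.leaf 0xa0001)))) (.node 28 (.node 26 (.node 25 (.leaf 0xb0001) (.leaf 0xc0001)) (.node 27 (.leaf 0xd0001) (.leaf 0xe0001))) (.node 30 (.node 29 (.leaf 0xf0001) (.leaf 0x100001)) (.node 31 (.leaf 0x110001) (.leaf 0x120001))))))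

def rUS_2 : Store := (.node 56 (.node 52 (.node 50 (.node 49 (.leaf 0x2040003) (.leaf 0x102050003)) (.node 51 (.leaf 0x502010003) (.leaf 0x20402000604060008))) (.node 54 (.node 53 (.leaf 0x1) (.leaf 0x500010003)) (.node 55 (.leaf 0x5050001010005) (.leaf 0x10600050601040504000a)))) (.node 60 (.node 58 (.node 57 (.leaf 0x1020104020005050008) (.leaf 0x100020405040007)) (.node 59 (.leaf 0x10005020104050007) (.leaf 0x605050200010205040101000b))) (.node 62 (.node 61 (.leaf 0x80404040004) (.leaf 0x904040504010006)) (.node 63 (.leaf 0xa040505000101000008) (.node 64 (.leaf 0x0) (.leaf 0x0))))))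

def rUS_3 : Store := (.node 48 (.node 40 (.node 36 (.node 34 (.node 33 (.leaf 0x130001) (.leaf 0x140001)) (.node 35 (.leaf 0x80001) (.leaf 0x90001))) (.node 38 (.node 37 (.leaf 0xa0001) (.leaf 0xb0001)) (.node 39 (.leaf 0xc0001) (.leaf 0xd0001)))) (.node 44 (.node 42 (.node 41 (.leaf 0xe0001) (.leaf 0xf0001)) (.node 43 (.leaf 0x100001) (.leaf 0x110001))) (.node 46 (.node 45 (.leaf 0x120001) (.leaf 0x130001)) (.node 47 (.leaf 0x140001) (.leaf 0x20001))))) rUS_2)

def rUS : Store := (.node 32 rUS_1 rUS_3)

def rVS_1 : Store := (.node 16 (.node 8 (.node 4 (.node 2 (.node 1 (.leaf 0x1) (.leaf 0x10001)) (.node 3 (.leaf 0x20001) (.leaf 0x30001))) (.node 6 (.node 5 (.leaf 0x40001) (.leaf 0x50001)) (.node 7 (.leaf 0x60001) (.leaf 0x70001)))) (.node 12 (.node 10 (.node 9 (.leaf 0x80001) (.leaf 0x90001)) (.node 11 (.leaf 0xa0001) (.leaf 0xb0001))) (.node 14 (.node 13 (.leaf 0xc0001) (.leaf 0xd0001)) (.node 15 (.leaf 0xe0001) (.leaf 0xf0001))))) (.node 24 (.node 20 (.node 18 (.node 17 (.leaf 0x100001) (.leaf 0x110001)) (.node 19 (.leaf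 0x120001) (.leaf 0x130001))) (.node 22 (.node 21 (.leaf 0x140001) (.leaf 0x80001)) (.node 23 (.leaf 0x90001) (.leaf 0xa0001)))) (.node 28 (.node 26 (.node 25 (.leaf 0xb0001) (.leaf 0xc0001)) (.node 27 (.leaf 0xd0001) (.leaf 0xe0001))) (.node 30 (.node 29 (.leaf 0xf0001) (.leaf 0x100001)) (.node 31 (.leaf 0x110001) (.leaf 0x120001))))))

def rVS_2 : Store := (.node 56 (.node 52 (.node 50 (.node 49 (.leaf 0x1020104020005050008) (.leaf 0x100020405040007)) (.node 51 (.leaf 0x10005020104050007) (.leaf 0x605050200010205040101000b))) (.node 54 (.node 53 (.leaf 0x80404040004) (.leaf 0x904040504010006)) (.node 55 (.leaf 0xa040505000101000008) (.leaf 0x20001)))) (.node 60 (.node 58 (.node 57 (.leaf 0x2040003) (.leaf 0x102050003)) (.node 59 (.leaf 0x502010003) (.leaf 0x20402000604060008))) (.node 62 (.node 61 (.leaf 0x1) (.leaf 0x500010003)) (.node 63 (.leaf 0x5050001010005) (.node 64 (.leaf 0xc0c0c0c0c0c0c0c0c0c0c0c0c0c0c0c0c0b0b0b0b0b0b0b0b0b0b0b0b0b0b0b0b0b04040024) (.leaf 0xb00000003))))))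

def rVS_3 : Store := (.node 48 (.node 40 (.node 36 (.node 34 (.node 33 (.leaf 0x130001) (.leaf 0x140001)) (.node 35 (.leaf 0x80001) (.leaf 0x90001))) (.node 38 (.node 37 (.leaf 0xa0001) (.leaf 0xb0001)) (.node 39 (.leaf 0xc0001) (.leaf 0xd0001)))) (.node 44 (.node 42 (.node 41 (.leaf 0xe0001) (.leaf 0xf0001)) (.node 43 (.leaf 0x100001) (.leaf 0x110001))) (.node 46 (.node 45 (.leaf 0x120001) (.leaf 0x130001)) (.node 47 (.leaf 0x140001) (.leaf 0x10600050601040504000a))))) rVS_2)

def rVS : Store := (.node 32 rVS_1 rVS_3)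

def invTS : Store := (.leaf 0x100020000)

noncomputable def invT : Nat → Nat := get16 invTS

def mulTS : Store := (.leaf 0x10003000100000002000300020001)

noncomputable def mulT : Nat → Nat := get16 mulTS

def relHdS : Store := (.leaf 0x20002000100010001)

noncomputable def relHd : Nat → Nat := get16 relHdS

def relLenS : Store := (.leaf 0x30003000300020002)

noncomputable def relLen : Nat → Nat := get16 relLenS

def relWS : Store := (.node 7 (.node 3 (.node 1 (.leaf 0x1010005050005) (.node 2 (.leaf 0x1010005050005) (.leaf 0x0))) (.node 5 (.node 4 (.leaf 0xe0e0e0e0e0e0e0e0e0e0e0e0e0e0e0e0e0d0d0d0d0d0d0d0d0d0d0d0d0d0d0d0d0d0706010406040706002a) (.leaf 0x50001000500060405060107060104060503040013)) (.node 6 (.leaf 0x0) (.leaf 0x30001)))) (.node 11 (.node 9 (.node 8 (.leaf 0x10101010101010101010101010101010100f0f0f0f0f0f0f0f0f0f0f0f0f0f0f0f0f020102030505020305020102000601010401010401000038) (.leaf 0x70001)) (.node 10 (.leaf 0x121212121212121212121212121212121211111111111111111111111111111111110401040505040204050007060402010200070034)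 (.leaf 0x201020305050203010201010205040505040500010015))) (.node 13 (.node 12 (.leaf 0x70502040200020306060401060102040505000013) (.leaf 0x14141414141414141414141414141414141313131313131313131313131313131313010405040502000204020706010204060032)) (.node 14 (.leaf 0x3010002) (.leaf 0x10204010106030604020006010104050401010013)))))

def relTS : Store := (.leaf 0x200010001000200010001000200020001000000010001000000010001)

noncomputable def relT : Nat → Nat := get16 relTS

def relTlS : Store := (.node 2 (.node 1 (.leaf 0xb040401010405050008) (.leaf 0x20304020104020300020406010102010001010014)) (.node 3 (.leaf 0x2030500010203050001020104010104010012) (.node 4 (.leaf 0x201020305050203010201010205040505040500010015) (.leaf 0x3010002))))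

/-- The rules and relators. -/
noncomputable def rules : Rules where
  nT := 3
  invT := invT
  mulT a b := mulT (Nat.add (Nat.mul a 3) b)
  nRule := 65
  rS := rS
  rD := rD
  rU := rUS.get
  rV := rVS.get
  nRel := 5
  relHd := relHd
  relLen := relLen
  relW r m := relWS.get (Nat.add (Nat.mul r 3) m)
  relT r m := relT (Nat.add (Nat.mul r 3) m)
  relTl := relTlS.get

end Cfsg.Agent.LyMult
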