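import Cfsg.Agent.S2100
import Cfsg.Agent.ProjExt.Stem
import Cfsg.Agent.Co1Mult.Killed
import Cfsg.Agent.LyMat.Main

/-!
Central extensions split over the subgroup `⟨a, b, c, d⟩`, and so the multiplier has exponent
dividing 324 once the index is known.
-/

set_option autoImplicit false
set_option maxRecDepth 100000

namespace Cfsg.Agent.LyMult

open Cfsg Cfsg.Agent.LyMat
open scoped commutatorElement

/-- Over a perfect group with trivial multiplier a central extension splits. -/
theorem exists_section {E H C : Type} [Group E] [Group H] [Group C] [Finite E]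
    (e : H ≃* C) (hC : commutator C = ⊤) (hm : HasCyclicSchurMultiplier C 1) (π : E →* H)
    (hs : Function.Surjective π) (hc : π.ker ≤ Subgroup.center E) :
    ∃ j : H →* E, (∀ h, π (j h) = h) ∧ j.range = commutator E := by
  let π' : E →* C := e.toMonoidHom.comp π
  have hs' : Function.Surjective π' := e.surjective.comp hs
  have hc' : ∀ x, π' x = 1 → ∀ y, x * y = y * x := fun x hx y =>
    (Subgroup.mem_center_iff.1 (hc (MonoidHom.mem_ker.2 (e.map_eq_one_iff.1 hx))) y).symm
  have him : (commutator E).map π' = ⊤ := by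
    rw [commutator_def, Subgroup.map_commutator, Subgroup.map_top_of_surjective π' hs', ← commutator_def, hC]
  let D := commutator E
  let σ : D →* C := π'.comp D.subtype
  have hσs : Function.Surjective σ := fun c => by
    obtain ⟨x, hx, hxe⟩ := (him ▸ Subgroup.mem_top c : c ∈ (commutator E).map π')
    exact ⟨⟨x, hx⟩, hxe⟩
  have hsplit : ∀ x : E, ∃ a : D, ∃ z : E, x = a * z ∧ ∀ y, z * y = y * z := fun x => by
    obtain ⟨a, ha⟩ := hσs (π' x)
    refine ⟨a, (a : E)⁻¹ * x, by group, hc' _ ?_⟩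
    rw [map_mul, map_inv]
    change (σ a)⁻¹ * π' x = 1
    rw [ha, inv_mul_cancel]
  have hperf : ∀ x y : E, ∃ a b : D, ⁅x, y⁆ = (⁅a, b⁆ : D) := fun x y => by
    obtain ⟨a, z, rfl, hz⟩ := hsplit x
    obtain ⟨b, w, rfl, hw⟩ := hsplit y
    refine ⟨a, b, ?_⟩
    simp only [commutatorElement_def, Subgroup.coe_mul, Subgroup.coe_inv, mul_inv_rev]
    calc (a : E) * z * ((b : E) * w) * (z⁻¹ * (a : E)⁻¹) * (w⁻¹ * (b : E)⁻¹)
        = (a : E) * (z * ((b : E) * w)) * z⁻¹ * (a : E)⁻¹ * (w⁻¹ * (b : E)⁻¹) := by group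
      _ = (a : E) * (((b : E) * w) * z) * z⁻¹ * (a : E)⁻¹ * (w⁻¹ * (b : E)⁻¹) := by rw [hz]
      _ = (a : E) * (b : E) * (w * (a : E)⁻¹) * w⁻¹ * (b : E)⁻¹ := by group
      _ = (a : E) * (b : E) * ((a : E)⁻¹ * w) * w⁻¹ * (b : E)⁻¹ := by rw [hw]
      _ = _ := by group
  have hD : commutator D = ⊤ := by
    apply Subgroup.map_injective D.subtype_injective
    apply le_antisymm (Subgroup.map_mono le_top)
    rw [← MonoidHom.range_eq_map, Subgroup.range_subtype]
    refine Subgroup.commutator_le.2 fun x _ y _ => ?_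
    obtain ⟨a, b, h⟩ := hperf x y
    exact ⟨⁅a, b⁆, Subgroup.commutator_mem_commutator (Subgroup.mem_top _) (Subgroup.mem_top _), h.symm⟩
  have hker : σ.ker = ⊥ := ProjExt.Stem.ker_eq_bot_of_trivial hm D σ
    ⟨hσs, fun x hx => Subgroup.mem_center_iff.2 fun y => Subtype.ext (hc' _ hx _).symm, hD ▸ le_top⟩
  let f := MulEquiv.ofBijective σ ⟨(MonoidHom.ker_eq_bot_iff σ).1 hker, hσs⟩
  refine ⟨D.subtype.comp (e.trans f.symm).toMonoidHom, fun h => e.injective ?_, ?_⟩
  · exact f.apply_symm_apply (e h)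
  · apply le_antisymm
    · rintro _ ⟨h, rfl⟩
      exact SetLike.coe_mem _
    · intro x hx
      exact ⟨e.symm (f ⟨x, hx⟩), by simp⟩

theorem perfect_chev : commutator ↥(Lie.chevG2.group (ZMod 5)) = ⊤ := by
  have h := Chev.g2_simple (ZMod 5) ⟨2, by decide, by decide⟩
  have := h.1
  rcases (Subgroup.commutator_normal (⊤ : Subgroup ↥(Lie.chevG2.group (ZMod 5))) ⊤).eq_bot_or_eq_top
    with h' | h'
  · refine absurd ⟨⟨fun x y => ?_⟩⟩ h.2
    have hxy : ⁅x, y⁆ ∈ (⊥ : Subgroup ↥(Lie.chevG2.group (ZMod 5))) :=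
      h' ▸ Subgroup.commutator_mem_commutator (Subgroup.mem_top x) (Subgroup.mem_top y)
    exact commutatorElement_eq_one_iff_mul_comm.1 (Subgroup.mem_bot.1 hxy)
  · exact h'

theorem chev_multiplier : HasCyclicSchurMultiplier ↥(Lie.chevG2.group (ZMod 5)) 1 :=
  S2100.result (by simp [ZMod.card])

/-- Central extensions of the subgroup split. -/
theorem section_lyH {E : Type} [Group E] [Finite E] (π : E →* ↥lyH)
    (hs : Function.Surjective π) (hc : π.ker ≤ Subgroup.center E) :
    ∃ j : ↥lyH →* E, (∀ h, π (j h) = h) ∧ j.range = commutator E := by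
  obtain ⟨e⟩ := abcd_iso
  exact exists_section e perfect_chev chev_multiplier π hs hc

theorem killed_lyH : Co1Mult.Killed ↥lyH 1 := by
  intro K _ _ π hs hc k hk hk'
  obtain ⟨j, hj, hr⟩ := section_lyH π hs hc
  obtain ⟨h, rfl⟩ := (hr ▸ hk' : k ∈ j.range)
  have h1 : π (j h) = 1 := MonoidHom.mem_ker.1 hk
  rw [hj] at h1
  rw [h1, map_one, one_pow]

theorem killed_cyclic' {Q : Type} [Group Q] [IsCyclic Q] : Co1Mult.Killed Q 1 := by
  intro K _ _ π _ hc k _ hk'
  have hcomm : ∀ a b : K, a * b = b * a := commutative_of_cyclic_center_quotient π hc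
  rw [pow_one]
  have hle : commutator K ≤ ⊥ := by
    rw [commutator_def, Subgroup.commutator_le]
    exact fun a _ b _ => Subgroup.mem_bot.2 (commutatorElement_eq_one_iff_mul_comm.2 (hcomm a b))
  exact Subgroup.mem_bot.1 (hle hk')

theorem killed_prime {Q : Type} [Group Q] [Finite Q] {p m : ℕ} (hp : p.Prime)
    (hcard : Nat.card Q = p * m) (hm : ¬ p ∣ m) : Co1Mult.Killed Q m := by
  haveI := Fact.mk hp
  let P : Sylow p Q := Classical.arbitrary _
  have hm0 : m ≠ 0 := fun h => hm (h ▸ dvd_zero p)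
  have hP : Nat.card (P : Subgroup Q) = p := by
    rw [Sylow.card_eq_multiplicity, hcard, Nat.factorization_mul hp.ne_zero hm0, Finsupp.add_apply,
      hp.factorization_self, Nat.factorization_eq_zero_of_not_dvd hm, add_zero, pow_one]
  have : IsCyclic (P : Subgroup Q) := isCyclic_of_prime_card hP
  have hi : (P : Subgroup Q).index = m := by
    have h := (P : Subgroup Q).card_mul_index
    rw [hP, hcard] at h
    exact Nat.eq_of_mul_eq_mul_left hp.pos h
  have h := Co1Mult.killed_subgroup (P : Subgroup Q) killed_cyclic'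
  rwa [hi, mul_one] at h

theorem finite_ly (hidx : lyH.index = 8835156) :
    Finite (PresentedGroup lyRels) ∧ Nat.card (PresentedGroup lyRels) = 8835156 * 5859000000 := by
  obtain ⟨e⟩ := abcd_iso
  have hc : Nat.card ↥(Lie.chevG2.group (ZMod 5)) = 5859000000 := by
    have h := Chev.g2_card_group (ZMod 5)
    simp [ZMod.card, Fin.prod_univ_two] at h
    omega
  have h := lyH.card_mul_index
  rw [Nat.card_congr e.toEquiv, hc, hidx] at h
  exact ⟨Nat.finite_of_card_ne_zero (by rw [← h]; norm_num), by rw [← h, mul_comm]⟩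

/-- Kernels of stem extensions have exponent dividing 324. -/
theorem killed_ly (hidx : lyH.index = 8835156) : Co1Mult.Killed (PresentedGroup lyRels) 324 := by
  obtain ⟨hfin, hcard⟩ := finite_ly hidx
  intro K _ _ π hs hc k hk hk'
  have h0 := Co1Mult.killed_subgroup lyH killed_lyH K π hs hc k hk hk'
  rw [hidx] at h0
  have key : ∀ p m : ℕ, p.Prime → 8835156 * 5859000000 = p * m → ¬ p ∣ m → k ^ m = 1 :=
    fun p m hp he hm => killed_prime hp (hcard.trans he) hm K π hs hc k hk hk'
  have h11 := key 11 (803196 * 5859000000) (by norm_num) (by norm_num) (by norm_num)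
  have h37 := key 37 (238788 * 5859000000) (by norm_num) (by norm_num) (by norm_num)
  have h67 := key 67 (131868 * 5859000000) (by norm_num) (by norm_num) (by norm_num)
  rw [← orderOf_dvd_iff_pow_eq_one] at h0 h11 h37 h67 ⊢
  have h := Nat.dvd_gcd (Nat.dvd_gcd (Nat.dvd_gcd h0 h11) h37) h67
  norm_num at h
  exact h

end Cfsg.Agent.LyMult
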