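import Cfsg.Agent.LyMult.Lift
import Cfsg.Agent.LyMult.CheckSteps

/-! The rules hold in every central extension, and the derivation kills the central values. -/

set_option autoImplicit false
set_option maxRecDepth 100000

namespace Cfsg.Agent.LyMult

open Cfsg.Agent.DCoset Cfsg.Agent.CosetCert
open Cfsg.Spor (Ly.Gen)

/-- The conjugated generators. -/
def ug (k : Nat) : Cfsg.Spor.Ly.Gen := [.c1, .c2, .c3, .c4, .c5, .a1, .a2, .a3].getD k .c1

/-- Their images under `z`. -/
def xg (k : Nat) : Cfsg.Spor.Ly.Gen :=
  [.x162, .x163, .x164, .x165, .x166, .x167, .x168, .x169].getD k .x162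

/-- The central value going with the image. -/
def vl (k : Nat) : List Nat := if k < 5 then [] else [8 + (k - 5)]

/-- A letter for the unknown `i`, and its inverse. -/
def wpos (i : Nat) : List Nat := [8 + ([0, 1, 2, 3, 5, 7, 9, 11] : List Nat).getD i 0]

/-- The inverse of an unknown of order 324. -/
def wneg (i : Nat) : List Nat :=
  List.replicate 17 (8 + ([0, 1, 2, 3, 5, 7, 9, 11] : List Nat).getD i 0) ++
    List.replicate 17 (9 + ([0, 1, 2, 3, 5, 7, 9, 11] : List Nat).getD i 0)

theorem cyc_ok : Cyc.Ok cyc 3906 where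
  pos := by decide +kernel
  apart := by decide +kernel
  idx_lt := by decide +kernel

/-- The equations among the lifts: `A = a4`, `U = u`, `g` conjugated to `x`, and five relators. -/
structure Eqs {E : Type} [Group E] (ι : LyMat.Q →* E) (Z : E) (kv : Nat → E) : Prop where
  central : ∀ i, i < 8 → kv i ∈ Subgroup.center E
  order : ∀ i, i < 8 → kv i ^ cyc.len i = 1
  conj : ∀ k, k < 8 → Z * (ι (qw (gw (xg k))) * (if k < 5 then 1 else kv (k - 5))) = ι (qw (gw (ug k))) * Z
  sq : Z * Z = kv 3 * ι (qw (gw .u))
  cube : (ι (qw (gw .a4)) * Z) ^ 3 * ι (qw (gw .u)) = kv 3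
  r83 : ι (qw (gw .x47)) * Z * ι (qw (gw .x364)) * Z * ι (qw (gw .x368)) * Z = kv 4
  r84 : Z⁻¹ * ι (qw (gw .x24)) * Z⁻¹ * ι (qw (gw .x369)) * Z * ι (qw (gw .x23)) * Z *
    ι (qw (gw .x29)) = kv 5
  r85 : Z * ι (qw (gw .x366)) * Z * ι (qw (gw .x365)) * Z⁻¹ * ι (qw (gw .x367)) * Z⁻¹ *
    ι (qw (gw .x370)) = kv 6
  r86 : Z * ι (qw (gw .x96)) * Z * ι (qw (gw .x25)) * Z⁻¹ * ι (qw (gw .x129)) * Z⁻¹ *
    ι (qw (gw .x371)) = kv 7

theorem rot_eq_one {G : Type*} [Group G] {p s t : G} (h : p * s = t) : s * t⁻¹ * p = 1 := by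
  rw [← h]; group

variable {E : Type} [Group E] {ι : LyMat.Q →* E} {Z : E} {kv : Nat → E}

/-- The base condition of the model. -/
theorem base_check : (Nat.beq cyc.r 8 && Nat.beq wtab.base
    (pk16 (8 + 3) (flds cyc (fun _ => 0) (fld tab.base)))) = true := by decide +kernel

theorem flds_base (e : Nat → Nat) {h : Nat → Nat} (hh : ∀ i, h i < 3906)
    (hb : tab.base = pk16 3 h) :
    pk16 (8 + 3) (flds cyc e h) = pk16 (8 + 3) (flds cyc e (fld tab.base)) :=
  pk16_congr _ fun l hl => by
    unfold flds
    split_ifs with hl'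
    · rfl
    · rw [hb, fld_pk16 _ _ (fun i => by have := hh i; omega)]
      change ¬ l < 8 at hl'
      change l - 8 < 3
      omega

/-- The model in the extension. -/
noncomputable def model (H : Eqs ι Z kv) : Model E :=
  wModel qModel (show 3906 ≤ 65536 by norm_num) qModel_below cyc cyc_ok wtab.base
    (fun h hh hb => by
      have h1 := (Bool.and_eq_true_iff.1 base_check).2
      rw [Nat.eq_of_beq_eq_true h1]
      exact (flds_base _ hh hb).symm)
    ι kv H.central H.order

/-- The extra letters. -/
def Tv (Z : E) (τ : Nat) : E := if τ = 0 then 1 else if τ = 1 then Z else Z⁻¹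

theorem lv_prod (H : Eqs ι Z kv) : ∀ l : List Nat, (∀ x ∈ l, x < 8) →
    (l.map (model H).lv).prod = ι (qw l)
  | [], _ => by simp [qw]
  | x :: l, h => by
    rw [List.map_cons, List.prod_cons, lv_prod H l fun y hy => h y (List.mem_cons_of_mem _ hy),
      show qw (x :: l) = Ly.qL x * qw l by simp [qw], map_mul]
    congr 1
    exact if_pos (h x List.mem_cons_self)

theorem lv_w (H : Eqs ι Z kv) (j : Nat) :
    (model H).lv (8 + j) = kv (cyc.idx j) ^ cyc.inc j := by
  show (if 8 + j < 8 then ι (qModel.q (8 + j))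
    else kv (cyc.idx (8 + j - 8)) ^ cyc.inc (8 + j - 8)) = _
  rw [if_neg (show ¬ 8 + j < 8 by omega), Nat.add_sub_cancel_left]

theorem lv_ge (H : Eqs ι Z kv) {g : Nat} (hg : 8 ≤ g) :
    (model H).lv g = kv (cyc.idx (g - 8)) ^ cyc.inc (g - 8) := by
  have h := lv_w H (g - 8)
  rwa [Nat.add_sub_cancel' hg] at h

theorem val_list (H : Eqs ι Z kv) {w : Nat} (l m : List Nat)
    (h : (Nat.beq w (pkW (l ++ m)) && l.all (Nat.blt · 8) &&
      ((l ++ m).all (Nat.blt · 256) && Nat.blt (l ++ m).length 65536)) = true) :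
    val (model H).lv w = ι (qw l) * (m.map (model H).lv).prod := by
  simp only [Bool.and_eq_true] at h
  obtain ⟨⟨h1, h2⟩, h3⟩ := h
  rw [Nat.eq_of_beq_eq_true h1, val_pkW _ _ (by rw [Bool.and_eq_true]; exact h3), List.map_append,
    List.prod_append, lv_prod H l fun x hx => Nat.le_of_ble_eq_true (List.all_eq_true.1 h2 x hx)]

theorem wpos_val (H : Eqs ι Z kv) : ∀ i, i < 8 → ((wpos i).map (model H).lv).prod = kv i := by
  intro i hi
  interval_cases i <;> simp (discharger := omega) [wpos, lv_ge, cyc, List.getElem?_cons_zero, List.getD]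

theorem wneg_val (H : Eqs ι Z kv) : ∀ i, 3 ≤ i → i < 8 →
    ((wneg i).map (model H).lv).prod = (kv i)⁻¹ := by
  intro i h3 hi
  have key : kv i ^ 17 * (kv i ^ 18) ^ 17 = (kv i)⁻¹ := by
    rw [← pow_mul, ← pow_add, eq_inv_iff_mul_eq_one, ← pow_succ]
    have h := H.order i hi
    interval_cases i <;> exact h
  rw [← key, wneg, List.map_append, List.prod_append, List.map_replicate, List.prod_replicate,
    List.map_replicate, List.prod_replicate]
  interval_cases i <;> simp (discharger := omega) [lv_ge, cyc, List.getElem?_cons_zero, List.getD]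

theorem vl_val (H : Eqs ι Z kv) {k : Nat} (hk : k < 8) :
    ((vl k).map (model H).lv).prod = if k < 5 then 1 else kv (k - 5) := by
  unfold vl
  split_ifs with h
  · rfl
  · interval_cases k <;> simp (discharger := omega) [lv_ge, cyc, List.getElem?_cons_zero, List.getD] at *

theorem okWord_all : allFrom (fun r => wtab.okWord (rules.rU r) && wtab.okWord (rules.rV r) &&
    Nat.blt (rules.rS r) 3 && Nat.blt (rules.rD r) 3) 0 65 = true := by decide +kernel

theorem rules_triv : allFrom (fun r => Nat.beq (rules.rS r) 0 && Nat.beq (rules.rD r) 0 &&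
    Nat.beq (rules.rU r) (rules.rV r)) 0 21 = true := by decide +kernel

theorem rules_comm : allFrom (fun j => Nat.beq (rules.rS (21 + j)) (1 + j / 13) &&
    Nat.beq (rules.rD (21 + j)) (1 + j / 13) &&
    (Nat.beq (rules.rU (21 + j)) (pkW [8 + j % 13]) && Nat.beq (rules.rV (21 + j)) (pkW [8 + j % 13]))) 0 26
      = true := by decide +kernel

theorem rules_conj : allFrom (fun k =>
    (Nat.beq (rules.rS (47 + k)) 1 && Nat.beq (rules.rD (47 + k)) 1 &&
      (Nat.beq (rules.rS (55 + k)) 2 && Nat.beq (rules.rD (55 + k)) 2)) &&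
    ((Nat.beq (rules.rU (47 + k)) (pkW (gw (ug k) ++ [])) && (gw (ug k)).all (Nat.blt · 8) &&
      ((gw (ug k) ++ []).all (Nat.blt · 256) && Nat.blt (gw (ug k) ++ []).length 65536)) &&
    (Nat.beq (rules.rV (47 + k)) (pkW (gw (xg k) ++ vl k)) && (gw (xg k)).all (Nat.blt · 8) &&
      ((gw (xg k) ++ vl k).all (Nat.blt · 256) && Nat.blt (gw (xg k) ++ vl k).length 65536)) &&
    (Nat.beq (rules.rU (55 + k)) (rules.rV (47 + k)) && Nat.beq (rules.rV (55 + k)) (rules.rU (47 + k))))) 0 8
      = true := by decide +kernel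

theorem sq_inv_central (H : Eqs ι Z kv) : kv 3 ∈ Subgroup.center E := H.central 3 (by norm_num)

theorem qw_u : qw [4, 4] = (qw (gw .u))⁻¹ := by
  rw [← qw_winv _ (by decide)]
  rfl

theorem rel_okWord : allFrom (fun r => Nat.blt (rules.relHd r) 3 && wtab.okWord (rules.relTl r) &&
    allFrom (fun m => Nat.blt (rules.relT r m) 3 && wtab.okWord (rules.relW r m)) 0 (rules.relLen r)) 0 5
      = true := by decide +kernel

theorem rel_eq (H : Eqs ι Z kv) : ∀ r, r < 5 →
    Tv Z (rules.relHd r) * ((List.range (rules.relLen r)).map fun m =>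
      val (model H).lv (rules.relW r m) * Tv Z (rules.relT r m)).prod =
        val (model H).lv (rules.relTl r) := by
  intro r hr
  have hk := fun i (hi : i < 8) => Subgroup.mem_center_iff.1 (H.central i hi)
  interval_cases r
  · rw [show rules.relHd 0 = 1 by decide +kernel, show rules.relLen 0 = 2 by decide +kernel,
      val_list H (w := rules.relTl 0) (winv (gw .a4) ++ winv (gw .u)) (wpos 3) (by decide +kernel),
      qw_append, qw_winv _ (by decide), qw_winv _ (by decide), wpos_val H 3 (by norm_num),
      map_mul, map_inv, map_inv]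
    simp only [List.range_succ, List.range_zero, List.nil_append, List.map_cons, List.map_nil,
      List.cons_append, List.prod_cons, List.prod_nil, mul_one,
      show rules.relT 0 0 = 1 by decide +kernel, show rules.relT 0 1 = 1 by decide +kernel,
      val_list H (w := rules.relW 0 0) (gw .a4) [] (by decide +kernel),
      val_list H (w := rules.relW 0 1) (gw .a4) [] (by decide +kernel), Tv, one_ne_zero, if_false, if_true]
    have h : (ι (qw (gw .a4)) * Z) ^ 3 = (ι (qw (gw .u)))⁻¹ * kv 3 := by
      rw [hk 3 (by norm_num)]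
      exact eq_mul_inv_iff_mul_eq.2 H.cube
    rw [mul_assoc (ι (qw (gw .a4)))⁻¹, ← h, pow_three]
    simp [mul_assoc]
  · have h := rot_eq_one (p := ι (qw (gw .x47)) * Z * ι (qw (gw .x364)) * Z)
      (s := ι (qw (gw .x368)) * Z) (t := kv 4) (by rw [← H.r83]; simp only [mul_assoc])
    rw [show rules.relHd 1 = 1 by decide +kernel, show rules.relLen 1 = 2 by decide +kernel,
      val_list H (w := rules.relTl 1) (winv (gw .x368)) [] (by decide +kernel),
      qw_winv _ (by decide), map_inv]
    simp only [List.range_succ, List.range_zero, List.nil_append, List.map_cons, List.map_nil,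
      List.cons_append, List.prod_cons, List.prod_nil, mul_one,
      show rules.relT 1 0 = 1 by decide +kernel, show rules.relT 1 1 = 1 by decide +kernel,
      val_list H (w := rules.relW 1 0) (gw .x47) (wneg 4) (by decide +kernel),
      val_list H (w := rules.relW 1 1) (gw .x364) [] (by decide +kernel),
      wneg_val H 4 (by norm_num) (by norm_num), Tv, one_ne_zero, if_false, if_true]
    refine eq_inv_of_mul_eq_one_right (Eq.trans ?_ h)
    simp only [mul_assoc]
    rw [← mul_assoc (ι (qw (gw .x47))) (kv 4)⁻¹, (Commute.inv_right (hk 4 (by norm_num) (ι (qw (gw .x47))))).eq]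
    simp only [mul_assoc]
  · have h := rot_eq_one (p := Z⁻¹ * ι (qw (gw .x24)) * Z⁻¹)
      (s := ι (qw (gw .x369)) * Z * ι (qw (gw .x23)) * Z * ι (qw (gw .x29))) (t := kv 5)
      (by rw [← H.r84]; simp only [mul_assoc])
    rw [show rules.relHd 2 = 1 by decide +kernel, show rules.relLen 2 = 3 by decide +kernel,
      val_list H (w := rules.relTl 2) (winv (gw .x369)) [] (by decide +kernel),
      qw_winv _ (by decide), map_inv]
    simp only [List.range_succ, List.range_zero, List.nil_append, List.map_cons, List.map_nil,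
      List.cons_append, List.prod_cons, List.prod_nil, mul_one,
      show rules.relT 2 0 = 1 by decide +kernel, show rules.relT 2 1 = 2 by decide +kernel,
      show rules.relT 2 2 = 2 by decide +kernel,
      val_list H (w := rules.relW 2 0) (gw .x23) [] (by decide +kernel),
      val_list H (w := rules.relW 2 1) (gw .x29) (wneg 5) (by decide +kernel),
      val_list H (w := rules.relW 2 2) (gw .x24) [] (by decide +kernel),
      wneg_val H 5 (by norm_num) (by norm_num), Tv, one_ne_zero, if_false, if_true,
      show ¬ (2 : ℕ) = 0 by norm_num, show ¬ (2 : ℕ) = 1 by norm_num]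
    refine eq_inv_of_mul_eq_one_right (Eq.trans ?_ h)
    simp only [mul_assoc]
  · have h := rot_eq_one (p := Z * ι (qw (gw .x366)) * Z * ι (qw (gw .x365)) * Z⁻¹)
      (s := ι (qw (gw .x367)) * Z⁻¹ * ι (qw (gw .x370))) (t := kv 6)
      (by rw [← H.r85]; simp only [mul_assoc])
    rw [show rules.relHd 3 = 2 by decide +kernel, show rules.relLen 3 = 3 by decide +kernel,
      val_list H (w := rules.relTl 3) (winv (gw .x367)) [] (by decide +kernel),
      qw_winv _ (by decide), map_inv]
    simp only [List.range_succ, List.range_zero, List.nil_append, List.map_cons, List.map_nil,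
      List.cons_append, List.prod_cons, List.prod_nil, mul_one,
      show rules.relT 3 0 = 1 by decide +kernel, show rules.relT 3 1 = 1 by decide +kernel,
      show rules.relT 3 2 = 2 by decide +kernel,
      val_list H (w := rules.relW 3 0) (gw .x370) (wneg 6) (by decide +kernel),
      val_list H (w := rules.relW 3 1) (gw .x366) [] (by decide +kernel),
      val_list H (w := rules.relW 3 2) (gw .x365) [] (by decide +kernel),
      wneg_val H 6 (by norm_num) (by norm_num), Tv, one_ne_zero, if_false, if_true,
      show ¬ (2 : ℕ) = 0 by norm_num, show ¬ (2 : ℕ) = 1 by norm_num]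
    refine eq_inv_of_mul_eq_one_right (Eq.trans ?_ h)
    simp only [mul_assoc]
  · have h := rot_eq_one (p := Z * ι (qw (gw .x96)) * Z * ι (qw (gw .x25)) * Z⁻¹)
      (s := ι (qw (gw .x129)) * Z⁻¹ * ι (qw (gw .x371))) (t := kv 7)
      (by rw [← H.r86]; simp only [mul_assoc])
    rw [show rules.relHd 4 = 2 by decide +kernel, show rules.relLen 4 = 3 by decide +kernel,
      val_list H (w := rules.relTl 4) (winv (gw .x129)) [] (by decide +kernel),
      qw_winv _ (by decide), map_inv]
    simp only [List.range_succ, List.range_zero, List.nil_append, List.map_cons, List.map_nil,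
      List.cons_append, List.prod_cons, List.prod_nil, mul_one,
      show rules.relT 4 0 = 1 by decide +kernel, show rules.relT 4 1 = 1 by decide +kernel,
      show rules.relT 4 2 = 2 by decide +kernel,
      val_list H (w := rules.relW 4 0) (gw .x371) (wneg 7) (by decide +kernel),
      val_list H (w := rules.relW 4 1) (gw .x96) [] (by decide +kernel),
      val_list H (w := rules.relW 4 2) (gw .x25) [] (by decide +kernel),
      wneg_val H 7 (by norm_num) (by norm_num), Tv, one_ne_zero, if_false, if_true,
      show ¬ (2 : ℕ) = 0 by norm_num, show ¬ (2 : ℕ) = 1 by norm_num]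
    refine eq_inv_of_mul_eq_one_right (Eq.trans ?_ h)
    simp only [mul_assoc]

theorem sound (H : Eqs ι Z kv) : rules.Sound (model H) (Tv Z) where
  T_zero := rfl
  inv_eq τ hτ := by
    change τ < 3 at hτ
    interval_cases τ <;> refine ⟨by decide +kernel, ?_⟩
    · rw [show rules.invT 0 = 0 by decide +kernel]; simp [Tv]
    · rw [show rules.invT 1 = 2 by decide +kernel]; simp [Tv]
    · rw [show rules.invT 2 = 1 by decide +kernel]; simp [Tv]
  mul_eq σ τ hσ hτ hne := by
    change σ < 3 at hσ
    change τ < 3 at hτ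
    interval_cases σ <;> interval_cases τ
    · rw [show rules.mulT 0 0 = 1 by decide +kernel]; simp [Tv, rules]
    · rw [show rules.mulT 0 1 = 2 by decide +kernel]; simp [Tv, rules]
    · rw [show rules.mulT 0 2 = 3 by decide +kernel]; simp [Tv, rules]
    · rw [show rules.mulT 1 0 = 2 by decide +kernel]; simp [Tv, rules]
    · exact absurd (by decide +kernel) hne
    · rw [show rules.mulT 1 2 = 1 by decide +kernel]; simp [Tv, rules]
    · rw [show rules.mulT 2 0 = 3 by decide +kernel]; simp [Tv, rules]
    · rw [show rules.mulT 2 1 = 1 by decide +kernel]; simp [Tv, rules]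
    · exact absurd (by decide +kernel) hne
  rule_ok r hr := by
    change r < 65 at hr
    have h0 := allFrom_all okWord_all hr
    simp only [Bool.and_eq_true] at h0
    refine ⟨Nat.le_of_ble_eq_true h0.1.2, Nat.le_of_ble_eq_true h0.2, h0.1.1.1, h0.1.1.2, ?_⟩
    rcases Nat.lt_or_ge r 21 with h1 | h1
    · have h := allFrom_all rules_triv h1
      simp only [Bool.and_eq_true] at h
      rw [Nat.eq_of_beq_eq_true h.1.1, Nat.eq_of_beq_eq_true h.1.2, Nat.eq_of_beq_eq_true h.2]
      simp [Tv]
    rcases Nat.lt_or_ge r 47 with h2 | h2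
    · obtain ⟨j, rfl⟩ : ∃ j, r = 21 + j := ⟨r - 21, by omega⟩
      have h := allFrom_all rules_comm (show j < 26 by omega)
      simp only [Bool.and_eq_true] at h
      rw [Nat.eq_of_beq_eq_true h.1.1, Nat.eq_of_beq_eq_true h.1.2, Nat.eq_of_beq_eq_true h.2.1,
        Nat.eq_of_beq_eq_true h.2.2, val_pkW _ _ (by simp [Nat.blt]; omega)]
      simp only [List.map_cons, List.map_nil, List.prod_cons, List.prod_nil, mul_one, lv_w]
      exact Subgroup.mem_center_iff.1 (Subgroup.pow_mem _
        (H.central _ (cyc_ok.idx_lt _ (show j % 13 < 13 from Nat.mod_lt _ (by norm_num)))) _) _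
    rcases Nat.lt_or_ge r 63 with h3 | h3
    · have key : ∀ k, k < 8 →
          Tv Z (rules.rS (47 + k)) * val (model H).lv (rules.rV (47 + k)) =
            val (model H).lv (rules.rU (47 + k)) * Tv Z (rules.rD (47 + k)) ∧
          Tv Z (rules.rS (55 + k)) * val (model H).lv (rules.rV (55 + k)) =
            val (model H).lv (rules.rU (55 + k)) * Tv Z (rules.rD (55 + k)) := by
        intro k hk
        have h := allFrom_all rules_conj hk
        simp only [Bool.and_eq_true] at h
        obtain ⟨⟨⟨s1, d1⟩, s2, d2⟩, ⟨hu, hv⟩, e1, e2⟩ := h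
        have hu' := val_list H (w := rules.rU (47 + k)) (gw (ug k)) []
          (by simp only [Bool.and_eq_true]; exact hu)
        have hv' := val_list H (w := rules.rV (47 + k)) (gw (xg k)) (vl k)
          (by simp only [Bool.and_eq_true]; exact hv)
        rw [List.map_nil, List.prod_nil, mul_one] at hu'
        rw [vl_val H hk] at hv'
        rw [Nat.eq_of_beq_eq_true s1, Nat.eq_of_beq_eq_true d1, Nat.eq_of_beq_eq_true s2,
          Nat.eq_of_beq_eq_true d2, Nat.eq_of_beq_eq_true e1, Nat.eq_of_beq_eq_true e2, hu', hv']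
        have hz := H.conj k hk
        refine ⟨hz, ?_⟩
        show Z⁻¹ * _ = _ * Z⁻¹
        rw [eq_mul_inv_iff_mul_eq, mul_assoc, ← hz, inv_mul_cancel_left]
      rcases Nat.lt_or_ge r 55 with h4 | h4
      · obtain ⟨k, rfl⟩ : ∃ k, r = 47 + k := ⟨r - 47, by omega⟩
        exact (key k (by omega)).1
      · obtain ⟨k, rfl⟩ : ∃ k, r = 55 + k := ⟨r - 55, by omega⟩
        exact (key k (by omega)).2
    have hk3 := Subgroup.mem_center_iff.1 (sq_inv_central H)
    interval_cases r
    · rw [show rules.rS 63 = 1 by decide +kernel, show rules.rD 63 = 2 by decide +kernel,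
        val_list H [4, 4] (wneg 3) (by decide +kernel), val_list H (w := rules.rU 63) [] [] (by decide +kernel),
        wneg_val H 3 le_rfl (by norm_num), qw_u, map_inv, List.map_nil, List.prod_nil,
        ← mul_inv_rev, ← H.sq]
      simp [Tv, qw]
    · rw [show rules.rS 64 = 2 by decide +kernel, show rules.rD 64 = 1 by decide +kernel,
        val_list H [0, 0] (wpos 3) (by decide +kernel), val_list H (w := rules.rU 64) [] [] (by decide +kernel),
        wpos_val H 3 (by norm_num)]
      simp only [List.map_nil, List.prod_nil, map_one, one_mul, Tv]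
      show Z⁻¹ * (ι (qw (gw .u)) * kv 3) = ι (qw []) * 1 * Z
      rw [hk3, ← H.sq]
      simp [qw]
  rel_ok r hr := by
    change r < 5 at hr
    have h := allFrom_all rel_okWord hr
    simp only [Bool.and_eq_true] at h
    refine ⟨Nat.le_of_ble_eq_true h.1.1, h.1.2, fun m hm => ?_, rel_eq H r hr⟩
    have h2 := (allFrom_iff _ _ _).1 h.2 m (Nat.zero_le _) (by omega)
    simp only [Bool.and_eq_true] at h2
    exact ⟨Nat.le_of_ble_eq_true h2.1, h2.2⟩

end Cfsg.Agent.LyMult
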