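import Cfsg.Agent.LyMult.StepData0
import Cfsg.Agent.LyMult.StepData1

/-! Generated: the derivation. -/

set_option Elab.async false

namespace Cfsg.Agent.LyMult

open Cfsg.Agent.DCoset Cfsg.Agent.CosetCert

/-- The derivation. -/
noncomputable def steps : Steps where
  nNode := 13
  nodeSrc := nodeSrc
  nodeW := nodeWS.get
  nodeT := nodeT
  len := 1508
  kind := kind
  argA := argA
  argB := argB
  argW := argWS.get
  fI := fI
  fH := getN 176 fHS
  fT := fT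
  fJ := fJ
  fK := getN 176 fKS

/-- The facts with nothing but central elements, and their exponents. -/
def found : List (Nat × List Nat) := [
  (602, [2, 0, 2, 0, 0, 0, 0, 0]),
  (611, [1, 1, 2, 0, 0, 0, 0, 0]),
  (620, [2, 1, 1, 0, 0, 0, 0, 0]),
  (627, [2, 0, 0, 0, 0, 0, 0, 0]),
  (709, [2, 2, 1, 0, 0, 0, 0, 0]),
  (728, [2, 2, 2, 323, 0, 0, 0, 0]),
  (1041, [0, 1, 2, 321, 2, 0, 0, 0]),
  (1068, [0, 1, 2, 322, 1, 0, 0, 0]),
  (1216, [1, 3, 2, 0, 0, 0, 10, 0]),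
  (1244, [0, 2, 3, 0, 0, 0, 23, 0]),
  (1435, [2, 3, 3, 0, 0, 0, 0, 20]),
  (1463, [3, 3, 0, 0, 0, 0, 0, 31]),
  (1507, [1, 0, 1, 0, 0, 323, 2, 0])]

/-- Combinations of the found exponents giving each unit. -/
def combo : List (List Nat) := [
  [222, 171, 216, 0, 0, 303, 303, 42, 0, 0, 314, 320, 0],
  [296, 286, 216, 0, 0, 135, 135, 54, 0, 0, 296, 248, 0],
  [65, 258, 108, 0, 0, 267, 267, 114, 0, 0, 181, 40, 0],
  [102, 154, 108, 0, 0, 21, 22, 280, 0, 0, 10, 4, 0],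
  [102, 154, 108, 0, 0, 21, 23, 279, 0, 0, 10, 4, 0],
  [289, 157, 216, 0, 0, 12, 12, 300, 0, 310, 185, 236, 323],
  [163, 26, 108, 0, 0, 207, 207, 234, 0, 155, 7, 100, 0],
  [186, 291, 270, 0, 0, 30, 30, 264, 0, 0, 24, 319, 0]]

end Cfsg.Agent.LyMult
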