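import Cfsg.Agent.DCoset.Ly.Table
import Cfsg.Agent.LyMult.WModel

/-! Generated: the permutation table. -/

set_option Elab.async false

namespace Cfsg.Agent.LyMult

open Cfsg.Agent.DCoset Cfsg.Agent.CosetCert

/-- The letters a, b, c, d and their inverses on 3906 points, with three base points. -/
noncomputable def tab : Tab where
  k := 3
  nL := 8
  act := Ly.tab.act
  base := 0x1400010000

theorem tab_act_lt (g p : Nat) : tab.act g p < 65536 := Ly.tab_act_lt g p

/-- The cycles for the eight unknown central elements. -/
noncomputable def cyc : Cyc where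
  r := 8
  off i := Nat.add 4096 (Nat.mul 512 i)
  len i := Bool.rec (motive := fun _ => Nat) 324 4 (Nat.blt i 3)
  nW := 13
  idx j := [0,1,2,3,3,4,4,5,5,6,6,7,7].getD j 0
  inc j := [1,1,1,1,18,1,18,1,18,1,18,1,18].getD j 0

/-- The letters of `tab` and of `cyc`. -/
noncomputable def wtab : Tab := wTab tab 3906 cyc 0x14000100001e001c001a0018001600140012001000

end Cfsg.Agent.LyMult
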